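import Mathlib.LinearAlgebra.Determinant
import Mathlib.LinearAlgebra.Eigenspace.Triangularizable
import Mathlib.LinearAlgebra.Matrix.Polynomial

/-!
# A net of surjective maps with one-dimensional kernels
-/

set_option autoImplicit false

universe u

noncomputable section

namespace Groth.L03.VBPn.VdV

open Module

variable {k : Type u} [Field k] {V W : Type u} [AddCommGroup V] [Module k V] [AddCommGroup W] [Module k W]

/-- Two maps with every combination injective, the first bijective, have trivial source. -/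
theorem subsingleton_of_bijective [IsAlgClosed k] [FiniteDimensional k V] (A B : V →ₗ[k] W)
    (hA : Function.Bijective A) (h : ∀ c : k, Function.Injective (B - c • A)) : Subsingleton V := by
  by_contra hV
  haveI := not_subsingleton_iff_nontrivial.1 hV
  let T : V →ₗ[k] V := (LinearEquiv.ofBijective A hA).symm.toLinearMap ∘ₗ B
  obtain ⟨c, hc⟩ := Module.End.exists_eigenvalue (T : Module.End k V)
  obtain ⟨v, hv⟩ := hc.exists_hasEigenvector
  refine hv.2 (h c ?_)
  have h1 : A (T v) = B v := (LinearEquiv.ofBijective A hA).apply_symm_apply (B v)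
  rw [map_zero, LinearMap.sub_apply, LinearMap.smul_apply, ← h1, hv.apply_eq_smul, map_smul, sub_self]

variable [IsAlgClosed k] [FiniteDimensional k V] [FiniteDimensional k W]

/-- A pencil of surjections with one-dimensional kernels has no short chain. -/
theorem false_of_chain (A B : V →ₗ[k] W) (hdim : finrank k V = finrank k W + 1)
    (h : ∀ a b : k, a ≠ 0 ∨ b ≠ 0 → Function.Surjective (a • A + b • B)) (x : ℕ → V) (hx : x ≠ 0)
    (hlong : ∀ i, finrank k W ≤ i → x i = 0) (h0 : A (x 0) = 0) (hrec : ∀ i, A (x (i + 1)) + B (x i) = 0) :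
    False := by
  classical
  let X := Submodule.span k (Set.range x)
  let Y := X.map A
  have hmem : ∀ i, x i ∈ X := fun i => Submodule.subset_span ⟨i, rfl⟩
  have hBX : X.map B ≤ Y := by
    rw [Submodule.map_le_iff_le_comap, Submodule.span_le]
    rintro _ ⟨i, rfl⟩
    exact ⟨-x (i + 1), neg_mem (hmem _), by rw [map_neg]; exact neg_eq_of_add_eq_zero_right (hrec i)⟩
  have hker : ∀ (a b : k), a ≠ 0 ∨ b ≠ 0 → finrank k (LinearMap.ker (a • A + b • B)) = 1 := fun a b hab => by
    have := (a • A + b • B).finrank_range_add_finrank_ker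
    rw [LinearMap.range_eq_top.2 (h a b hab), finrank_top] at this
    omega
  have hA0 : (1 : k) • A + (0 : k) • B = A := by simp
  have hex : ∃ i, x i ≠ 0 := Function.ne_iff.1 hx
  have hi0 : A (x (Nat.find hex)) = 0 := by
    rcases Nat.eq_zero_or_pos (Nat.find hex) with h' | h'
    · rw [h']; exact h0
    · have h1 := hrec (Nat.find hex - 1)
      rw [show Nat.find hex - 1 + 1 = Nat.find hex by omega,
        not_not.1 (Nat.find_min hex (show Nat.find hex - 1 < Nat.find hex by omega)), map_zero, add_zero] at h1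
      exact h1
  have hk : 0 < finrank k (LinearMap.ker (A.domRestrict X)) := by
    haveI : Nontrivial (LinearMap.ker (A.domRestrict X)) :=
      ⟨⟨⟨x _, hmem _⟩, hi0⟩, 0, fun h' => Nat.find_spec hex (congrArg (fun z => (z.1 : V)) h')⟩
    exact finrank_pos
  have hXY : finrank k Y < finrank k X := by
    have h2 := (A.domRestrict X).finrank_range_add_finrank_ker
    rw [LinearMap.range_domRestrict] at h2
    show finrank k (X.map A) < _
    omega
  have hle : ∀ a b : k, X ≤ Y.comap (a • A + b • B) := fun a b v hv => by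
    rw [Submodule.mem_comap, LinearMap.add_apply, LinearMap.smul_apply, LinearMap.smul_apply]
    exact Y.add_mem (Y.smul_mem _ (Submodule.mem_map_of_mem hv)) (Y.smul_mem _ (hBX (Submodule.mem_map_of_mem hv)))
  have hkerX : ∀ a b : k, a ≠ 0 ∨ b ≠ 0 → LinearMap.ker (a • A + b • B) ≤ X ∧ X.map (a • A + b • B) = Y := by
    intro a b hab
    obtain ⟨M, hM⟩ : ∃ M, M = a • A + b • B := ⟨_, rfl⟩
    have hker' := hker a b hab
    have hle' := hle a b
    rw [← hM] at hker' hle' ⊢
    have h2 := (M.domRestrict X).finrank_range_add_finrank_ker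
    rw [LinearMap.range_domRestrict] at h2
    have h3 : X.map M ≤ Y := Submodule.map_le_iff_le_comap.2 hle'
    have h4 := Submodule.finrank_mono h3
    have h5 : finrank k (LinearMap.ker (M.domRestrict X)) = finrank k (LinearMap.ker M ⊓ X : Submodule k V) := by
      rw [LinearMap.domRestrict, LinearMap.ker_comp, ← Submodule.finrank_map_subtype_eq, Submodule.map_comap_subtype,
        inf_comm]
    have h6 : finrank k (LinearMap.ker M ⊓ X : Submodule k V) ≤ 1 :=
      (Submodule.finrank_mono inf_le_left).trans hker'.le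
    refine ⟨inf_eq_left.1 (Submodule.eq_of_le_of_finrank_le inf_le_left ?_),
      Submodule.eq_of_le_of_finrank_le h3 ?_⟩
    · rw [hker']; omega
    · omega
  let A' := X.mapQ Y A (Submodule.map_le_iff_le_comap.1 le_rfl)
  let B' := X.mapQ Y B (Submodule.map_le_iff_le_comap.1 hBX)
  have hbij : ∀ a b : k, a ≠ 0 ∨ b ≠ 0 → Function.Bijective (a • A' + b • B') := by
    intro a b hab
    refine ⟨(injective_iff_map_eq_zero _).2 fun v => ?_, fun w => ?_⟩
    · obtain ⟨v, rfl⟩ := X.mkQ_surjective v
      intro hv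
      have hv' : (a • A + b • B) v ∈ Y := by
        rw [← Submodule.Quotient.mk_eq_zero]
        simpa [A', B'] using hv
      obtain ⟨hk', hY⟩ := hkerX a b hab
      rw [← hY] at hv'
      obtain ⟨v', hv'X, hv'e⟩ := hv'
      rw [Submodule.mkQ_apply, Submodule.Quotient.mk_eq_zero]
      have := X.add_mem (hk' (show v - v' ∈ LinearMap.ker (a • A + b • B) by
        rw [LinearMap.mem_ker, map_sub, hv'e, sub_self])) hv'X
      rwa [sub_add_cancel] at this
    · obtain ⟨w, rfl⟩ := Y.mkQ_surjective w
      obtain ⟨v, rfl⟩ := h a b hab w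
      exact ⟨X.mkQ v, by simp [A', B']⟩
  haveI : Subsingleton (V ⧸ X) := subsingleton_of_bijective A' B'
    (by simpa using hbij 1 0 (Or.inl one_ne_zero)) fun c => by
      have := (hbij (-c) 1 (Or.inr one_ne_zero)).1
      rwa [show (-c) • A' + (1 : k) • B' = B' - c • A' from
        LinearMap.ext fun v => by simp only [LinearMap.add_apply, LinearMap.smul_apply, LinearMap.sub_apply]; module]
        at this
  have htop : X = ⊤ := Submodule.Quotient.subsingleton_iff.1 inferInstance
  have hX : finrank k X ≤ finrank k W := by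
    have hs : X ≤ Submodule.span k (Set.range fun i : Fin (finrank k W) => x i) := by
      refine Submodule.span_le.2 ?_
      rintro _ ⟨i, rfl⟩
      by_cases hi : i < finrank k W
      · exact Submodule.subset_span ⟨⟨i, hi⟩, rfl⟩
      · rw [hlong i (not_lt.1 hi)]; exact zero_mem _
    exact (Submodule.finrank_mono hs).trans ((finrank_range_le_card _).trans_eq (Fintype.card_fin _))
  rw [htop, finrank_top] at hX
  omega

/-- The extension of a finite sequence by zero. -/
def ext₀ {m : ℕ} (x : Fin m → V) (i : ℕ) : V := if h : i < m then x ⟨i, h⟩ else 0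

/-- The Sylvester map of a pencil. -/
def syl (A B : V →ₗ[k] W) (m : ℕ) : (Fin m → V) →ₗ[k] (Fin (m + 1) → W) :=
  LinearMap.pi fun i =>
    A ∘ₗ (if h : (i : ℕ) < m then LinearMap.proj (⟨i, h⟩ : Fin m) else 0) +
      B ∘ₗ (if h : 0 < (i : ℕ) then LinearMap.proj (⟨(i : ℕ) - 1, by omega⟩ : Fin m) else 0)

theorem syl_apply (A B : V →ₗ[k] W) {m : ℕ} (x : Fin m → V) (i : Fin (m + 1)) :
    syl A B m x i = A (ext₀ x i) + B (if 0 < (i : ℕ) then ext₀ x (i - 1) else 0) := by
  simp only [syl, LinearMap.pi_apply, LinearMap.add_apply, LinearMap.comp_apply, ext₀]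
  by_cases h : (i : ℕ) < m <;> by_cases h' : 0 < (i : ℕ) <;>
    simp [h, h', show 0 < (i : ℕ) → (i : ℕ) - 1 < m from fun _ => by omega]

theorem syl_affine (A B C : V →ₗ[k] W) (t : k) (m : ℕ) :
    syl A (B + t • C) m = syl A B m + t • syl 0 C m := by
  refine LinearMap.ext fun x => funext fun i => ?_
  simp only [LinearMap.add_apply, LinearMap.smul_apply, Pi.add_apply, Pi.smul_apply, syl_apply]
  simp [add_assoc]

/-- A kernel vector of the Sylvester map is a chain. -/
theorem false_of_syl (A B : V →ₗ[k] W) (hdim : finrank k V = finrank k W + 1)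
    (h : ∀ a b : k, a ≠ 0 ∨ b ≠ 0 → Function.Surjective (a • A + b • B)) (x : Fin (finrank k W) → V) (hx : x ≠ 0)
    (h0 : syl A B (finrank k W) x = 0) : False := by
  refine false_of_chain A B hdim h (ext₀ x) (fun h' => hx (funext fun i => ?_)) (fun i hi => ?_) ?_ fun i => ?_
  · simpa [ext₀, i.2] using congrFun h' (i : ℕ)
  · simp [ext₀, not_lt.2 hi]
  · simpa [syl_apply] using congrFun h0 0
  · by_cases hi : i < finrank k W
    · simpa [syl_apply] using congrFun h0 (⟨i + 1, by omega⟩ : Fin (finrank k W + 1))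
    · simp [ext₀, hi, show ¬ i + 1 < finrank k W by omega]

/-- No net of surjections with one-dimensional kernels has nonzero target. -/
theorem subsingleton_of_net (A B C : V →ₗ[k] W) (hdim : finrank k V = finrank k W + 1)
    (h : ∀ a b c : k, a ≠ 0 ∨ b ≠ 0 ∨ c ≠ 0 → Function.Surjective (a • A + b • B + c • C)) : Subsingleton W := by
  classical
  by_contra hW
  haveI := not_subsingleton_iff_nontrivial.1 hW
  set m := finrank k W with hm
  have hmpos : 0 < m := finrank_pos
  have hinj : ∀ u w : k, (u ≠ 0 ∨ w ≠ 0) → Function.Injective (syl A (u • B + w • C) m) := fun u w huw => by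
    refine (injective_iff_map_eq_zero _).2 fun x hx => by_contra fun hne => ?_
    refine false_of_syl A (u • B + w • C) hdim (fun a b hab => ?_) x hne hx
    rw [smul_add, smul_smul, smul_smul, ← add_assoc]
    refine h a (b * u) (b * w) ?_
    rcases eq_or_ne b 0 with rfl | hb
    · exact Or.inl (hab.resolve_right (by simp))
    · rcases huw with hu | hw
      · exact Or.inr (Or.inl (mul_ne_zero hb hu))
      · exact Or.inr (Or.inr (mul_ne_zero hb hw))
  -- as endomorphisms
  have hd : finrank k (Fin m → V) = finrank k (Fin (m + 1) → W) := by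
    rw [finrank_pi_fintype, finrank_pi_fintype]; simp [hdim, ← hm, mul_comm]
  let e : (Fin m → V) ≃ₗ[k] (Fin (m + 1) → W) := LinearEquiv.ofFinrankEq _ _ hd
  let bas := Module.finBasis k (Fin m → V)
  let f : k → k → k := fun u w => LinearMap.det (e.symm.toLinearMap ∘ₗ syl A (u • B + w • C) m)
  have hf : ∀ u w, (u ≠ 0 ∨ w ≠ 0) → f u w ≠ 0 := fun u w huw =>
    (LinearEquiv.ofInjectiveEndo (e.symm.toLinearMap ∘ₗ syl A (u • B + w • C) m)
      (e.symm.injective.comp (hinj u w huw))).isUnit_det'.ne_zero
  have hf0 : f 0 0 = 0 := by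
    refine LinearMap.det_eq_zero_iff_ker_ne_bot.2 fun hbot => ?_
    have hA : finrank k (LinearMap.ker A) = 1 := by
      have := A.finrank_range_add_finrank_ker
      rw [LinearMap.range_eq_top.2 (by simpa using h 1 0 0 (Or.inl one_ne_zero)), finrank_top] at this
      omega
    haveI : Nontrivial (LinearMap.ker A) := Module.nontrivial_of_finrank_pos (R := k) (by omega)
    obtain ⟨⟨a, ha⟩, hne⟩ := exists_ne (0 : LinearMap.ker A)
    have hz : Function.update (0 : Fin m → V) ⟨0, hmpos⟩ a ∈ LinearMap.ker (e.symm.toLinearMap ∘ₗ syl A ((0 : k) • B + (0 : k) • C) m) := by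
      rw [LinearMap.mem_ker, LinearMap.comp_apply, show syl A ((0 : k) • B + (0 : k) • C) m _ = 0 from funext fun i => ?_,
        map_zero]
      rw [syl_apply]
      simp only [zero_smul, add_zero, LinearMap.zero_apply, Pi.zero_apply, ext₀]
      split_ifs with hi
      · by_cases hi0 : (⟨i, hi⟩ : Fin m) = ⟨0, hmpos⟩
        · rw [hi0, Function.update_self]; exact ha
        · rw [Function.update_of_ne hi0]; exact map_zero _
      · exact map_zero _
    rw [hbot, Submodule.mem_bot] at hz
    exact hne (Subtype.ext (by simpa using congrFun hz ⟨0, hmpos⟩))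
  -- polynomial on affine lines of parameters
  have hpoly : ∀ B' C' : V →ₗ[k] W, ∃ p : Polynomial k, ∀ t,
      p.eval t = LinearMap.det (e.symm.toLinearMap ∘ₗ syl A (B' + t • C') m) := by
    intro B' C'
    let M₀ := LinearMap.toMatrix bas bas (e.symm.toLinearMap ∘ₗ syl A B' m)
    let M₁ := LinearMap.toMatrix bas bas (e.symm.toLinearMap ∘ₗ syl 0 C' m)
    refine ⟨(M₀.map Polynomial.C + (Polynomial.X : Polynomial k) • M₁.map Polynomial.C).det, fun t => ?_⟩
    rw [← LinearMap.det_toMatrix bas, syl_affine, LinearMap.comp_add, LinearMap.comp_smul, map_add, map_smul,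
      ← Polynomial.coe_evalRingHom, RingHom.map_det]
    congr 1
    ext i j
    simp [M₀, M₁]
    ring
  obtain ⟨p, hp⟩ := hpoly B C
  have hconst : ∀ t, f 1 t = f 1 0 := by
    intro t
    have hev : ∀ t, p.eval t = f 1 t := fun t => by simpa [f] using hp t
    have hdeg : p.degree = 0 := by
      by_contra hne
      obtain ⟨r, hr⟩ := IsAlgClosed.exists_root p hne
      exact hf 1 r (Or.inl one_ne_zero) ((hev r).symm.trans hr)
    rw [← hev, ← hev, Polynomial.eq_C_of_degree_eq_zero hdeg, Polynomial.eval_C, Polynomial.eval_C]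
  -- scaling the second map
  let Dv : k → ((Fin m → V) →ₗ[k] (Fin m → V)) := fun c => LinearMap.pi fun i => c ^ (i : ℕ) • LinearMap.proj i
  let Dw : k → ((Fin (m + 1) → W) →ₗ[k] (Fin (m + 1) → W)) := fun c =>
    LinearMap.pi fun i => c ^ (i : ℕ) • LinearMap.proj i
  have hscale : ∀ (c : k) (B' : V →ₗ[k] W), LinearMap.det (e.symm.toLinearMap ∘ₗ syl A (c • B') m) * LinearMap.det (Dv c)
      = LinearMap.det (Dw c) * LinearMap.det (e.symm.toLinearMap ∘ₗ syl A B' m) := by
    intro c B'
    rw [← LinearMap.det_conj (Dw c) e.symm, ← map_mul, ← map_mul]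
    refine congrArg LinearMap.det (LinearMap.ext fun x => ?_)
    simp only [Module.End.mul_apply, LinearMap.comp_apply, LinearEquiv.coe_coe, LinearEquiv.symm_symm,
      LinearEquiv.apply_symm_apply]
    refine congrArg e.symm (funext fun i => ?_)
    have hext : ∀ j : ℕ, ext₀ (Dv c x) j = c ^ j • ext₀ x j := fun j => by
      by_cases hj : j < m <;> simp [ext₀, hj, Dv]
    rw [syl_apply, hext]
    show _ = c ^ (i : ℕ) • syl A B' m x i
    rw [syl_apply, map_smul, smul_add, LinearMap.smul_apply]
    congr 1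
    by_cases hi : 0 < (i : ℕ)
    · rw [if_pos hi, if_pos hi, hext, map_smul, smul_smul, ← pow_succ', Nat.sub_add_cancel hi]
    · rw [if_neg hi, if_neg hi, map_zero, smul_zero, smul_zero]
  have hDv : ∀ c : k, c ≠ 0 → LinearMap.det (Dv c) ≠ 0 := fun c hc => by
    refine (LinearEquiv.ofInjectiveEndo (Dv c) fun x y hxy => funext fun i => ?_).isUnit_det'.ne_zero
    exact smul_right_injective V (pow_ne_zero _ hc) (by simpa [Dv] using congrFun hxy i)
  have hflat : ∀ u : k, u ≠ 0 → f u 1 = f u 0 := by
    intro u hu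
    refine mul_right_cancel₀ (hDv u hu) ?_
    have h1 := hscale u ((1 : k) • B + u⁻¹ • C)
    have h2 := hscale u ((1 : k) • B + (0 : k) • C)
    simp only [smul_add, smul_smul, mul_one, mul_inv_cancel₀ hu, mul_zero] at h1 h2
    show f u 1 * _ = f u 0 * _
    refine h1.trans (Eq.trans ?_ h2.symm)
    exact congrArg _ (hconst u⁻¹)
  -- and letting the scalar tend to zero
  obtain ⟨p1, hp1⟩ := hpoly ((1 : k) • C) B
  obtain ⟨p0, hp0⟩ := hpoly ((0 : k) • C) B
  have hpf : ∀ u, p1.eval u = f u 1 ∧ p0.eval u = f u 0 := fun u => by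
    refine ⟨?_, ?_⟩
    · rw [hp1]; show _ = LinearMap.det _; rw [add_comm (u • B)]
    · rw [hp0]; show _ = LinearMap.det _; rw [add_comm (u • B)]
  have heq : p1 = p0 := Polynomial.eq_of_infinite_eval_eq p1 p0 (Set.Infinite.mono
    (fun u (hu : u ∈ ({0}ᶜ : Set k)) => by
      show p1.eval u = p0.eval u
      rw [(hpf u).1, (hpf u).2, hflat u hu]) (Set.finite_singleton (0 : k)).infinite_compl)
  exact hf 0 1 (Or.inr one_ne_zero) (by rw [← (hpf 0).1, heq, (hpf 0).2, hf0])

end Groth.L03.VBPn.VdV
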