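import Groth.Agent.L03.VBPn.VdV.Mult

/-!
# The cohomology of uniform bundles of rank two on the plane
-/

set_option autoImplicit false
set_option linter.style.haveILetI false
set_option linter.unusedSectionVars false
set_option backward.isDefEq.respectTransparency false
set_option backward.isDefEq.respectTransparency.types false

universe u

open CategoryTheory CategoryTheory.Limits AlgebraicGeometry TopologicalSpace
open Groth.L22.Reg (O' tw')
open Groth.L21.RR (h hk h_congr finite_HH')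
open Groth.L16
open Groth.L16.CohLinear (hmap hmap_comp exact_hmap_hmap exact_hmap_delta exact_delta_hmap overLin delta)
open Groth.L00.Tensor (tensorIso tensorComm tensorAssoc tensorUnitLeft tensorUnitRight tensorRightF)
open Groth.L03.VBPn.Lines (ψ)

noncomputable section

namespace Groth.L03.VBPn.VdV

variable {k : Type u} [Field k] [IsAlgClosed k]

section Plane

variable {E : (CohB1.ProjSpace 2 k).Modules} {d : ℕ}
  (hl : ∀ (i : CohB1.ProjSpace 1 k ⟶ CohB1.ProjSpace 2 k) [IsClosedImmersion i],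
    i ≫ CohB1.ProjSpace.toSpec 2 k = CohB1.ProjSpace.toSpec 1 k →
    Nonempty ((Scheme.Modules.pullback i).obj (O' 2 k 1) ≅ O' 1 k 1) →
    Nonempty ((Scheme.Modules.pullback i).obj E ≅ ∐ fun l : Fin 2 => O' 1 k (![(0 : ℤ), -(d : ℤ)] l)))
  (hE : FlatMod.IsFinLocFreeOfRank 2 E) (hd : 1 ≤ d)

include hl hE

/-- Multiplication by a form, counted. -/
theorem step {t t' : ℤ} (htt : t + 1 = t') {s : Coh.structureModule (CohB1.ProjSpace 2 k) ⟶ O' 2 k 1} (hs : s ≠ 0) :
    h k 0 (tw' E t) + ((t + 2).toNat + (t + 2 - d).toNat) =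
      h k 0 (tw' E t') + Module.finrank k (LinearMap.ker (mult E t s)) ∧
    ((d : ℤ) - 2 ≤ t → Function.Surjective (mult E t s)) := by
  have hEf := Groth.L22.CurveDeg.isFinLocFree_of_rank hE
  obtain ⟨j, hjc, hjs, hp, hker, -⟩ := Groth.L03.VBPn.Lines.exists_hyperplane s hs
  haveI := hjc
  subst htt
  obtain ⟨h0, h1⟩ := h_line (hl j hjs hp) (t + 1)
  obtain ⟨hm1, hm2⟩ := mult_facts (n := 1) hEf t s hs j hjs hp hker
  refine ⟨?_, fun ht => hm2 (h1 (by omega))⟩
  have := hm1
  rw [h0, show t + 1 + 1 = t + 2 by ring, show t + 1 - (d : ℤ) + 1 = t + 2 - d by ring] at this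
  exact this

theorem exists_form : ∃ s : Coh.structureModule (CohB1.ProjSpace 2 k) ⟶ O' 2 k 1, s ≠ 0 := by
  obtain ⟨s, hs⟩ := exists_forms (k := k)
  refine ⟨s 0, fun h => one_ne_zero (α := k) ?_⟩
  have := congrFun (hs (Pi.single 0 1) (by simp [Fin.sum_univ_three, h])) 0
  simpa using this

/-- No sections below. -/
theorem h0_eq_zero {t : ℤ} (ht : t ≤ -1) : h k 0 (tw' E t) = 0 := by
  obtain ⟨s, hs⟩ := exists_form hl hE
  obtain ⟨b, hb⟩ := Groth.L22.PDual.exists_low_locFree (n := 2) (by omega) (Groth.L22.CurveDeg.isFinLocFree_of_rank hE)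
  obtain ⟨j, rfl⟩ : ∃ j : ℕ, t = -1 - (j : ℤ) := ⟨(-1 - t).toNat, by omega⟩
  suffices H : ∀ l : ℕ, ∀ j : ℕ, (-1 - (j : ℤ)) - b ≤ l → h k 0 (tw' E (-1 - (j : ℤ))) = 0 from
    H ((-1 - (j : ℤ)) - b).toNat j (Int.self_le_toNat _)
  intro l
  induction l with
  | zero => exact fun j hj => Groth.L21.RR.h_eq_zero_of_subsingleton k (hb _ (by omega))
  | succ l ih =>
    intro j hj
    have h1 := (step hl hE (t := -1 - ((j + 1 : ℕ) : ℤ)) (t' := -1 - (j : ℤ)) (by push_cast; ring) hs).1
    rw [ih (j + 1) (by push_cast; omega)] at h1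
    omega

/-- Below the middle the sections of a twist of a section are all. -/
theorem h0_ge (h : ¬ Subsingleton (Coh.HH (CohB1.ProjSpace 2 k) E 0)) (t : ℕ) :
    (t + 2).choose 2 ≤ Groth.L21.RR.h k 0 (tw' E (t : ℤ)) := by
  haveI : IsIntegral (CohB1.ProjSpace 2 k) := ProjSpace.isIntegral 2 k
  haveI := Groth.L22.PDual.proper 2 k
  haveI := Groth.L21.RR.isNoetherian_of_proper (X := CohB1.ProjSpace 2 k) k
  haveI := not_subsingleton_iff_nontrivial.1 h
  obtain ⟨σ, hσ⟩ := Groth.L21.RR.exists_hom_ne_zero (L := E)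
  haveI := Groth.L03.ShStab.Rank2.isQCoh_of_rank hE
  haveI := Groth.L03.ShStab.Rank2.mono_of_ne_zero (Groth.L18.Ample.isInvertible_structureModule _)
    (Groth.L03.ShStab.Rank2.torsionFree_of_rank hE) hσ
  let T := tensorRightF (O' 2 k (t : ℤ))
  haveI : Mono (T.map σ) := by
    have hS : (ShortComplex.mk σ (cokernel.π σ) (cokernel.condition σ)).ShortExact :=
      { exact := ShortComplex.exact_cokernel σ }
    exact (Groth.L22.Reg.shortExact_tw hS (t : ℤ)).mono_f
  haveI : Module.Finite k (Coh.HH (CohB1.ProjSpace 2 k) (T.obj E) 0) :=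
    finite_tw (Groth.L22.CurveDeg.isFinLocFree_of_rank hE) (t : ℤ) 0
  have h1 := LinearMap.finrank_le_finrank_of_injective (f := hk k (T.map σ) 0) (Groth.L21.RR.injective_hmap_zero _)
  refine le_trans (le_of_eq ?_) h1
  show _ = Groth.L21.RR.h k 0 (CohB1.tensorMod (Coh.structureModule (CohB1.ProjSpace 2 k)) (O' 2 k (t : ℤ)))
  rw [h_congr k (tensorUnitLeft (O' 2 k (t : ℤ))) 0]
  obtain ⟨e⟩ := ProjSpace.nonempty_H0_twist_linearEquiv 2 k t
  exact ((Groth.L03.PlanePoints.finrank_homogeneous (F := k) 2 t).2).symm.trans e.finrank_eq.symm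

theorem h0_le {t : ℕ} (ht : t + 1 ≤ d) : h k 0 (tw' E (t : ℤ)) ≤ (t + 2).choose 2 := by
  obtain ⟨s, hs⟩ := exists_form hl hE
  induction t with
  | zero =>
    have h1 := (step hl hE (t := -1) (t' := ((0 : ℕ) : ℤ)) (by simp) hs).1
    rw [h0_eq_zero hl hE le_rfl] at h1
    simp only [show ((-1 : ℤ) + 2).toNat = 1 from rfl, show ((-1 : ℤ) + 2 - (d : ℤ)).toNat = 0 by omega] at h1
    simp only [Nat.cast_zero, zero_add, Nat.choose_self] at h1 ⊢
    omega
  | succ t ih =>
    have h1 := (step hl hE (t := (t : ℤ)) (t' := ((t + 1 : ℕ) : ℤ)) (by push_cast; ring) hs).1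
    have h2 := ih (by omega)
    rw [show ((t : ℤ) + 2).toNat = t + 2 by omega, show ((t : ℤ) + 2 - (d : ℤ)).toNat = 0 by omega] at h1
    rw [show t + 1 + 2 = (t + 2) + 1 from rfl, Nat.choose_succ_succ, Nat.choose_one_right]
    simp only [Nat.succ_eq_add_one, show (1 : ℕ) + 1 = 2 from rfl]
    omega

include hd

/-- Multiplication is injective below the middle. -/
theorem injective_of_h0_ne (h : ¬ Subsingleton (Coh.HH (CohB1.ProjSpace 2 k) E 0)) {t : ℤ} (ht : t ≤ (d : ℤ) - 2)
    {s : Coh.structureModule (CohB1.ProjSpace 2 k) ⟶ O' 2 k 1} (hs : s ≠ 0) :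
    Function.Injective (mult E t s) := by
  haveI := finite_tw (Groth.L22.CurveDeg.isFinLocFree_of_rank hE) t 1
  rw [← LinearMap.ker_eq_bot, ← Submodule.finrank_eq_zero]
  rcases le_or_gt t (-2) with ht' | ht'
  · have h1 := (step hl hE (t := t) rfl hs).1
    rw [h0_eq_zero hl hE (show t + 1 ≤ -1 by omega), h0_eq_zero hl hE (show t ≤ -1 by omega)] at h1
    omega
  rcases eq_or_lt_of_le (show (-1 : ℤ) ≤ t by omega) with rfl | ht''
  · have h1 := (step hl hE (t := -1) (t' := ((0 : ℕ) : ℤ)) (by simp) hs).1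
    have h2 := h0_ge hl hE h 0
    rw [h0_eq_zero hl hE le_rfl] at h1
    simp only [zero_add, Nat.choose_self, Nat.cast_zero] at h1 h2
    omega
  obtain ⟨u, rfl⟩ : ∃ u : ℕ, t = u := ⟨t.toNat, by omega⟩
  have h1 := (step hl hE (t := (u : ℤ)) (t' := ((u + 1 : ℕ) : ℤ)) (by push_cast; ring) hs).1
  have h2 := h0_ge hl hE h (u + 1)
  have h3 := h0_le hl hE (t := u) (by omega)
  rw [show u + 1 + 2 = (u + 2) + 1 from rfl, Nat.choose_succ_succ, Nat.choose_one_right] at h2
  simp only [Nat.succ_eq_add_one, show (1 : ℕ) + 1 = 2 from rfl] at h2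
  omega

/-- A section makes the bundle split. -/
theorem exists_split (h : ¬ Subsingleton (Coh.HH (CohB1.ProjSpace 2 k) E 0)) :
    ∃ b : Fin 2 → ℤ, Nonempty (E ≅ ∐ fun l : Fin 2 => O' 2 k (b l)) := by
  have hEf := Groth.L22.CurveDeg.isFinLocFree_of_rank hE
  obtain ⟨s, hs⟩ := exists_forms (k := k)
  let M := fun i => mult E ((d : ℤ) - 2) (s i)
  have hne : ∀ a : Fin 3 → k, a ≠ 0 → (∑ i, a i • s i) ≠ 0 := fun a ha h0 => ha (hs a h0)
  have hcomb : ∀ a : Fin 3 → k, mult E ((d : ℤ) - 2) (∑ i, a i • s i) = a 0 • M 0 + a 1 • M 1 + a 2 • M 2 :=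
    fun a => mult_sum E _ a s
  have hbij : ∀ a : Fin 3 → k, a ≠ 0 → Function.Bijective (a 0 • M 0 + a 1 • M 1 + a 2 • M 2) := fun a ha => by
    rw [← hcomb]
    exact ⟨injective_of_h0_ne hl hE hd h le_rfl (hne a ha), (step hl hE rfl (hne a ha)).2 le_rfl⟩
  haveI := finite_tw hEf ((d : ℤ) - 2) 1
  have hV : Subsingleton (Coh.HH (CohB1.ProjSpace 2 k) (tw' E ((d : ℤ) - 2)) 1) := by
    refine subsingleton_of_bijective (M 0) (M 1) (by simpa using hbij ![1, 0, 0] (by simp)) fun c => ?_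
    have := (hbij ![-c, 1, 0] (by simp)).1
    rwa [show (![-c, 1, 0] : Fin 3 → k) 0 • M 0 + (![-c, 1, 0] : Fin 3 → k) 1 • M 1 +
        (![-c, 1, 0] : Fin 3 → k) 2 • M 2 = M 1 - c • M 0 from LinearMap.ext fun v => by
      simp only [LinearMap.add_apply, LinearMap.smul_apply, LinearMap.sub_apply, Matrix.cons_val_zero,
        Matrix.cons_val_one, Matrix.cons_val]
      module] at this
  obtain ⟨s₀, hs₀⟩ := exists_form hl hE
  obtain ⟨j, hjc, hjs, hp, hker, -⟩ := Groth.L03.VBPn.Lines.exists_hyperplane s₀ hs₀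
  haveI := hjc
  have hall : ∀ t : ℤ, Subsingleton (Coh.HH (CohB1.ProjSpace 2 k) (tw' E t) 1) := by
    intro t
    rcases le_total ((d : ℤ) - 2) t with ht | ht
    · induction t, ht using Int.le_induction with
      | base => exact hV
      | succ t ht ih =>
        obtain ⟨-, h1⟩ := h_line (hl j hjs hp) (t + 1)
        exact subsingleton_up j hjs hp hs₀ hker hEf (by simpa using ih) (h1 (by omega))
    · induction t, ht using Int.le_induction_down with
      | base => exact hV
      | pred t ht ih =>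
        have hinj := injective_of_h0_ne hl hE hd h (t := t - 1) (by omega) hs₀
        have hsub : Subsingleton (Coh.HH (CohB1.ProjSpace 2 k) (tw' E (t - 1 + 1)) 1) := by
          rw [show t - 1 + 1 = t by ring]; exact ih
        exact ⟨fun x y => hinj (@Subsingleton.elim _ hsub _ _)⟩
  obtain ⟨r, b, hb, hlen⟩ := Groth.L22.PDual.split (Groth.L16.NegPow.isCoh_of_isFinLocFree hEf)
    (Or.inr (Groth.L22.PDual.exists_low_locFree (by omega) hEf)) fun t i h1 h2 => by
      obtain rfl : i = 1 := by omega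
      exact hall t
  obtain rfl : r = 2 := by exact_mod_cast hlen.symm.trans (Groth.L22.PDual.len_eq_of_rank hE)
  exact ⟨b, hb⟩

omit hd

/-- Without sections and with gap one the first cohomology dies from the normalised twist on. -/
theorem vanishing_of_h0_eq (hd1 : d = 1) (h : Subsingleton (Coh.HH (CohB1.ProjSpace 2 k) E 0)) :
    (∀ t : ℤ, 0 ≤ t → Subsingleton (Coh.HH (CohB1.ProjSpace 2 k) (tw' E t) 1)) ∧
      Groth.L22.Reg.Regular E 1 ∧ Groth.L21.RR.h k 0 (tw' E 1) = 3 := by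
  subst hd1
  have hEf := Groth.L22.CurveDeg.isFinLocFree_of_rank hE
  obtain ⟨z⟩ := Groth.L22.Reg.nonempty_tw_zero E
  have h0 : Groth.L21.RR.h k 0 (tw' E 0) = 0 :=
    (h_congr k z 0).trans (Groth.L21.RR.h_eq_zero_of_subsingleton k h)
  obtain ⟨s, hs⟩ := exists_forms (k := k)
  let M := fun i => mult E (-1) (s i)
  have hne : ∀ a : Fin 3 → k, a ≠ 0 → (∑ i, a i • s i) ≠ 0 := fun a ha h0 => ha (hs a h0)
  have hcomb : ∀ a : Fin 3 → k, mult E (-1) (∑ i, a i • s i) = a 0 • M 0 + a 1 • M 1 + a 2 • M 2 :=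
    fun a => mult_sum E _ a s
  haveI := finite_tw hEf (-1) 1
  haveI := finite_tw hEf (-1 + 1) 1
  obtain ⟨s₀, hs₀⟩ := exists_form hl hE
  have hdim : Module.finrank k (Coh.HH (CohB1.ProjSpace 2 k) (tw' E (-1)) 1) =
      Module.finrank k (Coh.HH (CohB1.ProjSpace 2 k) (tw' E (-1 + 1)) 1) + 1 := by
    obtain ⟨h1, h2⟩ := step hl hE (t := -1) (t' := 0) (by norm_num) hs₀
    have h3 := (mult E (-1) s₀).finrank_range_add_finrank_ker
    rw [LinearMap.range_eq_top.2 (h2 (by norm_num)), finrank_top] at h3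
    rw [h0_eq_zero hl hE le_rfl, h0] at h1
    simp only [Nat.cast_one, show ((-1 : ℤ) + 2).toNat = 1 from rfl, show ((-1 : ℤ) + 2 - 1).toNat = 0 from rfl] at h1
    omega
  have hW := subsingleton_of_net (M 0) (M 1) (M 2) hdim fun a b c habc => by
    have ha : (![a, b, c] : Fin 3 → k) ≠ 0 := fun h' => by
      simp [funext_iff, Fin.forall_fin_succ] at h'
      tauto
    have := (step hl hE (t := -1) rfl (hne _ ha)).2 (by norm_num)
    rw [hcomb] at this
    simpa using this
  have hW0 : Subsingleton (Coh.HH (CohB1.ProjSpace 2 k) (tw' E 0) 1) :=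
    by simpa using hW
  obtain ⟨j, hjc, hjs, hp, hker, -⟩ := Groth.L03.VBPn.Lines.exists_hyperplane s₀ hs₀
  haveI := hjc
  have hline : ∀ t : ℤ, 0 ≤ t →
      Subsingleton (Coh.HH (CohB1.ProjSpace 1 k) (tw' ((Scheme.Modules.pullback j).obj E) t) 1) := fun t ht =>
    (h_line (hl j hjs hp) t).2 (by omega)
  have hup : ∀ t : ℤ, 0 ≤ t → Subsingleton (Coh.HH (CohB1.ProjSpace 2 k) (tw' E t) 1) := by
    intro t ht
    induction t, ht using Int.le_induction with
    | base => exact hW0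
    | succ t ht ih => exact subsingleton_up j hjs hp hs₀ hker hEf (by simpa using ih) (hline _ (by omega))
  refine ⟨hup, ?_, ?_⟩
  · haveI := Groth.L03.ShStab.Rank2.isQCoh_of_rank hE
    obtain ⟨D, hD⟩ := ProjSpace.exists_vanishing 2 k E (Groth.L16.NegPow.isCoh_of_isFinLocFree hEf)
    have h2 : ∀ t : ℤ, -1 ≤ t → t ≤ D → Subsingleton (Coh.HH (CohB1.ProjSpace 2 k) (tw' E t) 2) := by
      intro t ht htD
      induction t, htD using Int.le_induction_down with
      | base => exact Groth.L22.Reg.subsingleton_iso (tensorComm _ _) 2 (hD D le_rfl 2 (by omega))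
      | pred t htD ih =>
        exact subsingleton_down j hjs hp hs₀ hker hEf (p := 1) (ih (by omega)) (hline t (by omega))
    refine Groth.L22.Reg.regular_of_le_n fun q h1 h2' => ?_
    interval_cases q
    · exact hW0
    · exact h2 _ le_rfl (by omega)
  · have h1 := (step hl hE (t := 0) (t' := 1) (by norm_num) hs₀).1
    haveI := hup 0 le_rfl
    haveI := finite_tw hEf 0 1
    have hk0 : Module.finrank k (LinearMap.ker (mult E 0 s₀)) = 0 := Module.finrank_zero_of_subsingleton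
    rw [hk0, h0] at h1
    simpa using h1.symm

end Plane

end Groth.L03.VBPn.VdV
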