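import Groth.Agent.L03.VBPn.VdV.Gap
import Groth.Agent.L03.VBPn.Cotangent
import Groth.Agent.L03.VBPn.LinSubUntwist
import Groth.Agent.L02.Canon.Basic
import Groth.Agent.L16.ProjSpace.Basic

/-!
# Uniform bundles of rank two on the plane
-/

set_option autoImplicit false
set_option linter.style.haveILetI false
set_option linter.unusedSectionVars false
set_option backward.isDefEq.respectTransparency false
set_option backward.isDefEq.respectTransparency.types false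

universe u

open CategoryTheory CategoryTheory.Limits AlgebraicGeometry
open Groth.L22.Reg (O' tw')
open Groth.L00.Tensor (tensorIso tensorComm tensorRightF)

noncomputable section

namespace Groth.L03.VBPn.VdV

variable {k : Type u} [Field k]

/-- Twisting a sum of twists. -/
theorem nonempty_tw_sigma {n N : ℕ} (a b : Fin N → ℤ) (t : ℤ) (σ : Fin N ≃ Fin N) (h : ∀ l, a l + t = b (σ l)) :
    Nonempty (tw' (∐ fun l => O' n k (a l)) t ≅ ∐ fun l => O' n k (b l)) := by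
  obtain ⟨c⟩ := Groth.L22.Reg.nonempty_tensor_sigma (n := n) (fun l => O' n k (a l)) (O' n k t)
  have h' := fun l => Groth.L22.Reg.nonempty_O_add (n := n) (R := k) (h l)
  exact ⟨c ≪≫ Sigma.mapIso (fun l => (h' l).some) ≪≫ Sigma.whiskerEquiv (f := fun l => O' n k (b (σ l))) (g := fun l => O' n k (b l)) σ fun _ => Iso.refl _⟩

variable [IsAlgClosed k]

theorem nonempty_tw_split {E : (CohB1.ProjSpace 2 k).Modules} {m : ℤ}
    (h : ∃ b : Fin 2 → ℤ, Nonempty (tw' E (-m) ≅ ∐ fun l : Fin 2 => O' 2 k (b l))) :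
    ∃ b : Fin 2 → ℤ, Nonempty (E ≅ ∐ fun l : Fin 2 => O' 2 k (b l)) := by
  obtain ⟨b, ⟨e⟩⟩ := h
  obtain ⟨u⟩ := Groth.L22.Reg.nonempty_tw_tw E (show -m + m = 0 by ring)
  obtain ⟨z⟩ := Groth.L22.Reg.nonempty_tw_zero E
  obtain ⟨w⟩ := nonempty_tw_sigma (k := k) (n := 2) b (fun l => b l + m) m (Equiv.refl _) fun l => rfl
  exact ⟨fun l => b l + m, ⟨z.symm ≪≫ u.symm ≪≫ tensorIso e (Iso.refl _) ≪≫ w⟩⟩

/-- The twisted cotangent sheaf is uniform of gap one. -/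
theorem omega_lines (i : CohB1.ProjSpace 1 k ⟶ CohB1.ProjSpace 2 k)
    (h1 : Nonempty ((Scheme.Modules.pullback i).obj (O' 2 k 1) ≅ O' 1 k 1)) :
    Nonempty ((Scheme.Modules.pullback i).obj (tw' (Omega.sheaf (CohB1.ProjSpace.toSpec 2 k)) 1) ≅
      ∐ fun l : Fin 2 => O' 1 k (![(0 : ℤ), -((1 : ℕ) : ℤ)] l)) := by
  obtain ⟨e⟩ := Groth.L03.VBPn.nonempty_pullback_omega i h1 (show 1 ≤ 2 by omega)
  obtain ⟨w⟩ := Groth.L03.VBPn.nonempty_omega_P1 (k := k)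
  obtain ⟨p⟩ := Groth.L03.VBPn.nonempty_pullback_tw i h1 (Omega.sheaf (CohB1.ProjSpace.toSpec 2 k)) 1
  let c : (∐ fun _ : Fin (2 - 1) => O' 1 k (-1)) ≅ O' 1 k (-1) :=
    { hom := Sigma.desc fun _ => 𝟙 _
      inv := Sigma.ι (fun _ : Fin (2 - 1) => O' 1 k (-1)) 0
      hom_inv_id := Sigma.hom_ext _ _ fun b => by
        obtain rfl : b = 0 := Subsingleton.elim (α := Fin 1) _ _
        simp
      inv_hom_id := Sigma.ι_desc _ _ }
  let s : O' 1 k (-2) ⊞ O' 1 k (-1) ≅ ∐ fun l : Fin 2 => O' 1 k (![(-1 : ℤ), -2] l) :=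
    { hom := biprod.desc (Sigma.ι (fun l : Fin 2 => O' 1 k (![(-1 : ℤ), -2] l)) 1)
        (Sigma.ι (fun l : Fin 2 => O' 1 k (![(-1 : ℤ), -2] l)) 0)
      inv := Sigma.desc fun l => match l with
        | 0 => (biprod.inr : O' 1 k (-1) ⟶ _)
        | 1 => (biprod.inl : O' 1 k (-2) ⟶ _)
      hom_inv_id := by apply biprod.hom_ext' <;> simp <;> rfl
      inv_hom_id := Sigma.hom_ext _ _ fun l => by fin_cases l <;> simp <;> rfl }
  obtain ⟨t⟩ := nonempty_tw_sigma (k := k) (n := 1) ![(-1 : ℤ), -2] ![(0 : ℤ), -((1 : ℕ) : ℤ)] 1 (Equiv.refl _)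
    fun l => by fin_cases l <;> simp
  exact ⟨p ≪≫ tensorIso (e ≪≫ biprod.mapIso w c ≪≫ s) (Iso.refl _) ≪≫ t⟩

variable [CharZero k]

/-- Uniform bundles of rank two on the plane. -/
theorem van_de_ven (E : (CohB1.ProjSpace 2 k).Modules) (hE : FlatMod.IsFinLocFreeOfRank 2 E) (a : Fin 2 → ℤ)
    (huniform : ∀ (i : CohB1.ProjSpace 1 k ⟶ CohB1.ProjSpace 2 k) [IsClosedImmersion i],
      i ≫ CohB1.ProjSpace.toSpec 2 k = CohB1.ProjSpace.toSpec 1 k →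
      Nonempty ((Scheme.Modules.pullback i).obj (O' 2 k 1) ≅ O' 1 k 1) →
      Nonempty ((Scheme.Modules.pullback i).obj E ≅ ∐ fun j : Fin 2 => O' 1 k (a j)))
    (hns : ¬ ∃ b : Fin 2 → ℤ, Nonempty (E ≅ ∐ fun j : Fin 2 => O' 2 k (b j))) :
    ∃ b : ℤ, Nonempty (E ≅ tw' (Omega.sheaf (CohB1.ProjSpace.toSpec 2 k)) b) := by
  classical
  let m : ℤ := max (a 0) (a 1)
  obtain ⟨d, hd⟩ : ∃ d : ℕ, m - min (a 0) (a 1) = d := ⟨(m - min (a 0) (a 1)).toNat, by omega⟩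
  let F := tw' E (-m)
  have hF : FlatMod.IsFinLocFreeOfRank 2 F :=
    Groth.L03.ShStab.TwistSubbundle.isFinLocFreeOfRank_tensor hE
      (Groth.L16.ProjTwist.isInvertible_twistProjSpace 2 k (-m))
  obtain ⟨σ, hσ⟩ : ∃ σ : Fin 2 ≃ Fin 2, ∀ l, a l + -m = ![(0 : ℤ), -(d : ℤ)] (σ l) := by
    rcases le_total (a 1) (a 0) with hle | hle
    · exact ⟨Equiv.refl _, fun l => by fin_cases l <;> simp <;> omega⟩
    · exact ⟨Equiv.swap 0 1, fun l => by fin_cases l <;> simp <;> omega⟩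
  have hl : ∀ (i : CohB1.ProjSpace 1 k ⟶ CohB1.ProjSpace 2 k) [IsClosedImmersion i],
      i ≫ CohB1.ProjSpace.toSpec 2 k = CohB1.ProjSpace.toSpec 1 k →
      Nonempty ((Scheme.Modules.pullback i).obj (O' 2 k 1) ≅ O' 1 k 1) →
      Nonempty ((Scheme.Modules.pullback i).obj F ≅ ∐ fun l : Fin 2 => O' 1 k (![(0 : ℤ), -(d : ℤ)] l)) := by
    intro i _ hi h1
    obtain ⟨e⟩ := huniform i hi h1
    obtain ⟨p⟩ := Groth.L03.VBPn.nonempty_pullback_tw i h1 E (-m)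
    obtain ⟨t⟩ := nonempty_tw_sigma (k := k) (n := 1) a ![(0 : ℤ), -(d : ℤ)] (-m) σ hσ
    exact ⟨p ≪≫ tensorIso e (Iso.refl _) ≪≫ t⟩
  rcases Nat.eq_zero_or_pos d with rfl | hdpos
  · exfalso
    obtain ⟨x, hx⟩ : ∃ x : CohB1.ProjSpace 2 k, IsClosed ({x} : Set (CohB1.ProjSpace 2 k)) := by
      haveI := Groth.L16.ProjSpace.isIntegral 2 k
      haveI : CompactSpace (CohB1.ProjSpace 2 k) :=
        QuasiCompact.compactSpace_of_compactSpace (CohB1.ProjSpace.toSpec 2 k)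
      obtain ⟨x, -, hx⟩ := (isClosed_univ (X := CohB1.ProjSpace 2 k)).exists_closed_singleton
        ⟨genericPoint _, trivial⟩
      exact ⟨x, hx⟩
    obtain ⟨e⟩ := Groth.L03.VBPn.Lines.nonempty_free (n := 2) le_rfl hF x hx fun i _ hi h1 _ => by
      obtain ⟨el⟩ := hl i hi h1
      obtain ⟨z⟩ := Groth.L22.Reg.nonempty_O_zero 1 k
      exact ⟨el ≪≫ Sigma.mapIso fun l => eqToIso (by fin_cases l <;> simp) ≪≫ z⟩
    obtain ⟨z⟩ := Groth.L22.Reg.nonempty_O_zero 2 k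
    exact hns (nonempty_tw_split ⟨fun _ => 0, ⟨e ≪≫ Sigma.mapIso fun _ => z.symm⟩⟩)
  have h0 : Subsingleton (Coh.HH (CohB1.ProjSpace 2 k) F 0) := by
    by_contra hne
    exact hns (nonempty_tw_split (exists_split hl hF hdpos hne))
  rcases Nat.lt_or_ge d 2 with hd2 | hd2
  swap
  · exact absurd h0 (h0_ne_of_gap hd2 hl hF)
  obtain rfl : d = 1 := by omega
  haveI : SmoothOfRelativeDimension 2 (CohB1.ProjSpace.toSpec 2 k) := inferInstance
  haveI := Groth.L22.PDual.proper 2 k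
  have hΩ : FlatMod.IsFinLocFreeOfRank 2 (tw' (Omega.sheaf (CohB1.ProjSpace.toSpec 2 k)) 1) :=
    Groth.L03.ShStab.TwistSubbundle.isFinLocFreeOfRank_tensor
      (Groth.L02.Canon.isFinLocFreeOfRank_omega (f := CohB1.ProjSpace.toSpec 2 k) 2)
      (Groth.L16.ProjTwist.isInvertible_twistProjSpace 2 k 1)
  obtain ⟨e⟩ := nonempty_iso hl hF h0 (fun i _ _ h1 => omega_lines i h1) hΩ
    (Groth.L03.VBPn.subsingleton_h0_omega_one 2 k)
  obtain ⟨u⟩ := Groth.L22.Reg.nonempty_tw_tw E (show -m + 1 = 1 - m by ring)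
  obtain ⟨v⟩ := Groth.L22.Reg.nonempty_tw_tw E (show (1 - m) + (m - 1) = 0 by ring)
  obtain ⟨z⟩ := Groth.L22.Reg.nonempty_tw_zero E
  obtain ⟨w⟩ := Groth.L22.Reg.nonempty_tw_tw (Omega.sheaf (CohB1.ProjSpace.toSpec 2 k)) (show (1 : ℤ) + 1 = 2 by norm_num)
  obtain ⟨w'⟩ := Groth.L22.Reg.nonempty_tw_tw (Omega.sheaf (CohB1.ProjSpace.toSpec 2 k))
    (show (2 : ℤ) + (m - 1) = m + 1 by ring)
  exact ⟨m + 1, ⟨z.symm ≪≫ v.symm ≪≫ tensorIso (u.symm ≪≫ e ≪≫ w) (Iso.refl _) ≪≫ w'⟩⟩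

end Groth.L03.VBPn.VdV
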