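import Groth.Agent.L03.VBPn.VdV.Gen
import Groth.Agent.L03.VBPn.GM.HypMain

/-!
# A gap of at least two gives a section
-/

set_option autoImplicit false
set_option linter.style.haveILetI false
set_option linter.unusedSectionVars false
set_option backward.isDefEq.respectTransparency false
set_option backward.isDefEq.respectTransparency.types false

universe u

open CategoryTheory CategoryTheory.Limits AlgebraicGeometry
open Groth.L22.SyzTilde (G S PS Fr pr matHom mulHom mem_G_cast)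
open Groth.L22.Reg (O' tw')
open Groth.L00.Tensor (tensorIso)
open Groth.L03.VBPn.GM

noncomputable section

namespace Groth.L03.VBPn.VdV

variable {k : Type u} [Field k] [IsAlgClosed k] [CharZero k]

theorem h0_ne_of_gap {E : (CohB1.ProjSpace (1 + 1) k).Modules} {d : ℕ} (hd : 2 ≤ d)
    (hl : ∀ (i : CohB1.ProjSpace 1 k ⟶ CohB1.ProjSpace (1 + 1) k) [IsClosedImmersion i],
      i ≫ CohB1.ProjSpace.toSpec (1 + 1) k = CohB1.ProjSpace.toSpec 1 k →
      Nonempty ((Scheme.Modules.pullback i).obj (O' (1 + 1) k 1) ≅ O' 1 k 1) →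
      Nonempty ((Scheme.Modules.pullback i).obj E ≅ ∐ fun l : Fin 2 => O' 1 k (![(0 : ℤ), -(d : ℤ)] l)))
    (hE : FlatMod.IsFinLocFreeOfRank 2 E) : ¬ Subsingleton (Coh.HH (CohB1.ProjSpace (1 + 1) k) E 0) := by
  classical
  intro hsub
  haveI : IsLocallyNoetherian (CohB1.ProjSpace (1 + 1) k) := by
    haveI := Groth.L22.Reg.isProper_over_proj (k := k) (n := 1 + 1)
    exact LocallyOfFiniteType.isLocallyNoetherian (CohB1.ProjSpace.toSpec (1 + 1) k)
  haveI : IsIntegral (CohB1.ProjSpace (1 + 1) k) := Groth.L16.ProjSpace.isIntegral (1 + 1) k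
  have hEc := Groth.L16.NegPow.isCoh_of_isFinLocFree (Groth.L03.VBPn.Tango.isFinLocFree_of_rank hE)
  obtain ⟨q, N, p0, -, hp0⟩ := Groth.L22.PDual.exists_epi_twists hEc 0
  haveI := hp0
  obtain ⟨p, M, p1, hqp, hp1⟩ := Groth.L22.PDual.exists_epi_twists
    (Groth.L16.CohKernel.isCoh_kernel_cokernel (Groth.L22.PDual.isCoh_sum N _) hEc p0).1 q
  haveI := hp1
  let dq : Fin N → ℤ := fun _ => (q : ℤ)
  let dp : Fin M → ℤ := fun _ => (p : ℤ)
  let π : Fr (r := 1 + 1) (k := k) dq ⟶ E := p0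
  haveI : Epi π := hp0
  obtain ⟨A, hA, hAe⟩ := exists_matHom (n := 1 + 1) (by omega)
    (show Fr (r := 1 + 1) (k := k) dp ⟶ Fr dq from p1 ≫ kernel.ι p0)
  have hzero : matHom A hA ≫ π = 0 := by
    rw [← hAe]
    show (p1 ≫ kernel.ι p0) ≫ p0 = 0
    rw [Category.assoc, kernel.condition, comp_zero]
  have hdesc : ∀ (T : (CohB1.ProjSpace (1 + 1) k).Modules) (f : Fr (r := 1 + 1) (k := k) dq ⟶ T),
      matHom A hA ≫ f = 0 → ∃ f', π ≫ f' = f := by
    intro T f hf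
    rw [← hAe] at hf
    have hf' : kernel.ι p0 ≫ (show (∐ fun _ : Fin N => O' (1 + 1) k (-(q : ℤ))) ⟶ T from f) = 0 :=
      (cancel_epi p1).1 (((Category.assoc _ _ _).symm.trans hf).trans comp_zero.symm)
    exact ⟨Abelian.epiDesc p0 _ hf', Abelian.comp_epiDesc p0 _ hf'⟩
  have hA' : ∀ a b, (A a b).IsHomogeneous (p - q) := fun a b => by
    have := hA a b
    rw [show dp b - dq a = (((p - q : ℕ)) : ℤ) by simp only [dp, dq]; omega, mem_G_cast] at this
    exact this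
  -- the lines
  have hline : ∀ st : Fin 1 ⊕ Fin 1 → k, Nonempty (Groth.L21.P1.sumO k ![(0 : ℤ), -(d : ℤ)] ≅
      (Scheme.Modules.pullback (lineMap st)).obj E) := fun st => by
    obtain ⟨h1, h2, h3⟩ := lineMap_spec st
    haveI := h1
    obtain ⟨el⟩ := hl (lineMap st) h2 h3
    exact ⟨biproduct.isoCoproduct _ ≪≫ el.symm⟩
  have hrow : ∀ st : Fin 1 ⊕ Fin 1 → k, ∃ v : Fin N → S 1 k,
      (∀ a, v a ∈ G 1 k (-(d : ℤ) + dq a)) ∧ v ≠ 0 ∧ ∀ b, ∑ a, v a * phi st (A a b) = 0 := by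
    intro st
    obtain ⟨z⟩ := hline st
    let O := fun l : Fin 2 => Groth.L21.P1.O k (![(0 : ℤ), -(d : ℤ)] l)
    let φ : (PB (phiGr st) (phiGr_irrelevant st)).obj E ⟶ Tw k 1 (-(d : ℤ)) := z.inv ≫ biproduct.π O 1
    refine exists_row_of_hom π A hA hzero le_rfl (phiGr st) (phiGr_irrelevant st) (φ := φ) fun h1 => ?_
    have h3 := congrArg (fun y => biproduct.ι O 1 ≫ z.hom ≫ y) h1
    simp [φ] at h3
    refine one_ne_zero (α := S 1 k) ((mulHom_eq_zero_iff (a := -(d : ℤ)) (b := -(d : ℤ))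
      (show (1 : S 1 k) ∈ G 1 k 0 from SetLike.one_mem_graded _) (add_zero _)).1 ?_)
    rw [mulHom_one]
    exact h3
  obtain ⟨e, he⟩ : ∃ e : ℕ, -(d : ℤ) + (q : ℤ) = (e : ℤ) := by
    obtain ⟨v, hv, hv0, -⟩ := hrow 0
    refine ⟨(-(d : ℤ) + (q : ℤ)).toNat, (Int.toNat_of_nonneg ?_).symm⟩
    by_contra hlt
    exact hv0 (funext fun a => Groth.L22.SyzTilde.eq_zero_of_mem_G_neg (show -(d : ℤ) + (q : ℤ) < 0 by omega) (hv a))
  obtain ⟨j, w, hj, hw, hw0, hwA⟩ := exists_global (e := e) (f := p - q) A hA' (fun st => by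
    obtain ⟨v, hv, hv0, hvA⟩ := hrow st
    refine ⟨v, fun a => ?_, hv0, hvA⟩
    have := hv a
    rw [show -(d : ℤ) + dq a = (e : ℤ) from he, mem_G_cast] at this
    exact this) fun st v w hv hw hvA hwA I J => by
    obtain ⟨z⟩ := hline st
    obtain ⟨γ, hγ⟩ := exists_rows_mul π A hA hdesc (phiGr st) (phiGr_irrelevant st) z
    obtain ⟨α, hα⟩ := hγ (-(d : ℤ)) (by simp; omega) v (fun a => by
      rw [show -(d : ℤ) + dq a = (e : ℤ) from he]; exact mem_G_cast.2 (hv a)) hvA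
    obtain ⟨β, hβ⟩ := hγ (-(d : ℤ) + 1) (by simp; omega) w (fun a => by
      rw [show -(d : ℤ) + 1 + dq a = ((e + 1 : ℕ) : ℤ) by push_cast; simp only [dq]; omega]
      exact mem_G_cast.2 (hw a)) hwA
    rw [hα, hα, hβ, hβ]
    ring
  let v : Fin N → S (1 + 1) k := fun a => (MvPolynomial.X 0) ^ (e - j) * w a
  have hv : ∀ a, v a ∈ G (1 + 1) k (-(d : ℤ) + dq a) := fun a => by
    rw [show -(d : ℤ) + dq a = (e : ℤ) from he, mem_G_cast]
    have := (MvPolynomial.isHomogeneous_X_pow (R := k) (0 : Fin (1 + 1 + 1)) (e - j)).mul (hw a)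
    rwa [show e - j + j = e by omega] at this
  obtain ⟨φ, hφ⟩ := hdesc _ (rowHom _ v hv) ((matHom_rowHom_eq_zero_iff A hA _ v hv).2 fun b => by
    simp only [v, mul_assoc, ← Finset.mul_sum, hwA, mul_zero])
  have hφ0 : φ ≠ 0 := fun h0 => hw0 (funext fun a => by
    rw [h0, comp_zero] at hφ
    exact (mul_eq_zero.1 (congrFun ((rowHom_eq_zero_iff _ v hv).1 hφ.symm) a)).resolve_left
      (pow_ne_zero _ (MvPolynomial.X_ne_zero _)))
  -- the determinant
  haveI := Groth.L03.ShStab.Rank2.isQCoh_of_rank hE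
  obtain ⟨L, hL⟩ := Groth.L12.ExtSh.exists_isExtPow (X := CohB1.ProjSpace (1 + 1) k) (E := E) (i := 2)
  obtain ⟨ext, hext⟩ := hL
  obtain ⟨c₁, ⟨ξ⟩⟩ := Groth.L20.PnPic.exists_iso_twist (n := 1 + 1) (R := k) L
    (Groth.L22.CurveDeg.Det.isInvertible_of_extPow ext hext hE)
  obtain ⟨h1, h2, h3⟩ := lineMap_spec (0 : Fin 1 ⊕ Fin 1 → k)
  obtain ⟨z⟩ := hline 0
  have hc1 := det_splitting (lineMap 0) h3 hE ⟨ext, hext⟩ ξ z
  simp at hc1
  obtain ⟨ζ⟩ := Groth.L03.ShStab.Rank2.exists_twist_inverse (k := k) (n := 1 + 1) (-(d : ℤ))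
  obtain ⟨D, hD⟩ := Groth.L03.ShStab.Rank2.exists_copairing ext hext (M := O' (1 + 1) k (-(d : ℤ)))
    (M' := O' (1 + 1) k (-(-(d : ℤ)))) φ ζ.hom
  have hD0 := Groth.L03.ShStab.Rank2.copairing_ne_zero ext hE
    (Groth.L16.ProjTwist.isInvertible_twistProjSpace (1 + 1) k _)
    (Groth.L16.ProjTwist.isInvertible_twistProjSpace (1 + 1) k _) hφ0 ζ hD
  obtain ⟨l⟩ := Groth.L22.Reg.nonempty_O_add (n := 1 + 1) (R := k) (show c₁ + -(-(d : ℤ)) = 0 by omega)
  let i := tensorIso ξ (Iso.refl (O' (1 + 1) k (-(-(d : ℤ))))) ≪≫ l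
  have hs : i.inv ≫ D ≠ 0 := fun h => hD0 (by rw [← cancel_epi i.inv, h, comp_zero])
  obtain ⟨zE⟩ := Groth.L22.Reg.nonempty_tw_zero E
  exact Groth.L03.ShStab.Rank2.not_subsingleton_of_hom hE (show -(0 : ℤ) ≤ 0 by omega) hs
    (Groth.L22.Reg.subsingleton_iso zE.symm 0 hsub)

end Groth.L03.VBPn.VdV
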