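import Groth.Agent.L03.VBPn.VdV.Coh
import Groth.Agent.L03.VBPn.GM.Main
import Groth.Agent.L22.Reg.Chi
import Groth.Agent.L18.KRRAmple
import Groth.Agent.L22.CurveDeg.Det.ExtPow
import Groth.Agent.L20.PnPic.Main
import Groth.Agent.L03.VBPn.FreeHom
import Groth.Agent.L03.VBPn.NullCorr
import Groth.Agent.L03.ShStab.ExtTwistPn
import Groth.Agent.L12.ExtSh.Exterior

/-!
# Uniform bundles of gap one without sections are determined
-/

set_option autoImplicit false
set_option linter.style.haveILetI false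
set_option linter.unusedSectionVars false
set_option backward.isDefEq.respectTransparency false
set_option backward.isDefEq.respectTransparency.types false

universe u

open CategoryTheory CategoryTheory.Limits AlgebraicGeometry TopologicalSpace
open Groth.L22.SyzTilde (G S PS Fr pr matHom mulHom mem_G_cast)
open Groth.L22.Reg (O' tw' cI cI_natural)
open Groth.L21.RR (h hk h_congr e0)
open Groth.L00.Tensor (tensorIso tensorComm tensorUnitLeft tensorUnitRight tensorMap tensorRightF)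
open Groth.L16.CohLinear (hmap)
open Groth.L03.VBPn.GM

noncomputable section

namespace Groth.L03.VBPn.VdV

variable {k : Type u} [Field k] {n : ℕ}

theorem isFinLocFreeOfRank_iso {X : Scheme.{u}} {M N : X.Modules} (e : M ≅ N) {r : ℕ}
    (h : FlatMod.IsFinLocFreeOfRank r M) : FlatMod.IsFinLocFreeOfRank r N := fun x => by
  obtain ⟨V, hx, ⟨i⟩⟩ := h x
  exact ⟨V, hx, ⟨(Scheme.Modules.restrictFunctor V.ι).mapIso e.symm ≪≫ i⟩⟩

theorem mulHom_one {a : ℤ} (hp : (1 : S n k) ∈ G n k 0) : mulHom (n := a) (n' := a) hp (add_zero a) = 𝟙 _ :=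
  Scheme.Modules.hom_ext _ _ fun W => ConcreteCategory.hom_ext _ _ fun f => val'_inj fun x => by
    show Groth.L22.SyzTilde.toLoc x.1 1 * val' f x = val' f x
    exact (congrArg (· * _) Localization.mk_one).trans (one_mul _)

theorem mulHom_congr {a b δ δ' : ℤ} {p p' : S n k} {hp : p ∈ G n k δ} {hp' : p' ∈ G n k δ'} {h : a + δ = b}
    {h' : a + δ' = b} (e : p = p') : mulHom (n := a) (n' := b) hp h = mulHom (n := a) (n' := b) hp' h' := by
  subst e
  obtain rfl : δ = δ' := by omega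
  rfl

theorem matHom_comp {N N' N'' : ℕ} {deg : Fin N → ℤ} {deg' : Fin N' → ℤ} {deg'' : Fin N'' → ℤ}
    (d : Fin N' → Fin N'' → S n k) (hd : ∀ a b, d a b ∈ G n k (deg'' b - deg' a))
    (d' : Fin N → Fin N' → S n k) (hd' : ∀ a b, d' a b ∈ G n k (deg' b - deg a)) :
    ∃ hdd : ∀ c b, (∑ a, d' c a * d a b) ∈ G n k (deg'' b - deg c),
      matHom d hd ≫ matHom d' hd' = matHom (fun c b => ∑ a, d' c a * d a b) hdd := by
  have hm : ∀ c a b, d' c a * d a b ∈ G n k (deg'' b - deg c) := fun c a b => by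
    have := mul_mem_G (hd' c a) (hd a b)
    rwa [show deg' a - deg c + (deg'' b - deg' a) = deg'' b - deg c by ring] at this
  refine ⟨fun c b => sum_mem fun a _ => hm c a b, Sigma.hom_ext _ _ fun b => ?_⟩
  rw [← Category.assoc, ι_matHom, ι_matHom, Preadditive.sum_comp]
  simp only [Category.assoc, ι_matHom, Preadditive.comp_sum]
  rw [Finset.sum_comm]
  refine Finset.sum_congr rfl fun c _ => ?_
  rw [← mulHom_sum (show -deg'' b + (deg'' b - deg c) = -deg c by ring) _ _ (fun a => hm c a b), Preadditive.sum_comp]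
  refine Finset.sum_congr rfl fun a _ => ?_
  rw [← Category.assoc, mulHom_comp (hd a b) (hd' c a) _ _ (show -deg'' b + (deg'' b - deg c) = -deg c by ring) (hm c a b)]

theorem matHom_one {N : ℕ} {deg : Fin N → ℤ} (d : Fin N → Fin N → S n k)
    (hd : ∀ a b, d a b ∈ G n k (deg b - deg a)) (h : ∀ a b, d a b = if a = b then 1 else 0) :
    matHom d hd = 𝟙 (Fr deg) := by
  refine Sigma.hom_ext _ _ fun b => ?_
  rw [ι_matHom, Category.comp_id, Finset.sum_eq_single b]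
  · rw [mulHom_congr (p' := (1 : S n k)) (hp' := show (1 : S n k) ∈ G n k 0 from SetLike.one_mem_graded _)
      (h' := add_zero _) (by rw [h, if_pos rfl]), mulHom_one, Category.id_comp]
  · intro a _ ha
    rw [(mulHom_eq_zero_iff (hd a b) _).2 (by rw [h, if_neg ha]), zero_comp]
  · intro hb; exact absurd (Finset.mem_univ b) hb

variable [IsAlgClosed k]

/-- A map surjective on sections onto a globally generated sheaf is an epimorphism. -/
theorem epi_of_surjective_h0 {X : Scheme.{u}} {F₀ Gm : X.Modules} (π : F₀ ⟶ Gm)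
    (hsurj : Function.Surjective (hmap π 0)) (hgg : Curv2.IsGloballyGenerated Gm) : Epi π := by
  obtain ⟨ι, p, hp⟩ := hgg
  haveI := hp
  let one₀ : Coh.HH X (Coh.structureModule X) 0 := (e0 _).symm (Groth.L21.RR.oneSec _)
  have hinj : ∀ (f g : Coh.structureModule X ⟶ Gm), hmap f 0 one₀ = hmap g 0 one₀ → f = g := fun f g hfg => by
    have := congrArg (e0 Gm) hfg
    rw [Groth.L21.RR.e0_hmap, Groth.L21.RR.e0_hmap, AddEquiv.apply_symm_apply] at this
    exact Groth.L21.RR.hom_ext_one this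
  have hfac : ∀ f : Coh.structureModule X ⟶ Gm, ∃ g : Coh.structureModule X ⟶ F₀, g ≫ π = f := fun f => by
    obtain ⟨y, hy⟩ := hsurj (hmap f 0 one₀)
    refine ⟨Groth.L16.homOfSection F₀ (e0 _ y), hinj _ _ ?_⟩
    refine (Groth.L16.CohLinear.hmap_comp _ π 0 one₀).trans ((congrArg (hmap π 0) ?_).trans hy)
    refine (e0 _).injective ?_
    rw [Groth.L21.RR.e0_hmap, AddEquiv.apply_symm_apply]
    exact Groth.L18.GenLoc.secOf_homOfSection _
  choose g hg using fun i : ι => hfac (Sigma.ι (fun _ : ι => Coh.structureModule X) i ≫ p)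
  have hp' : (show (SheafOfModules.free ι : X.Modules) ⟶ F₀ from Sigma.desc g) ≫ π = p :=
    Sigma.hom_ext _ _ fun i => by
      show Sigma.ι (fun _ : ι => Coh.structureModule X) i ≫ Sigma.desc g ≫ π = _
      rw [← Category.assoc, Sigma.ι_desc, hg]
  exact epi_of_epi_fac hp'

/-- Any family of sections is the image of the unit vectors. -/
theorem exists_desc_of_sections {X : Scheme.{u}} [X.Over (Spec (CommRingCat.of k))] {N : ℕ} {Gm : X.Modules}
    (A : Fin N → X.Modules) (z : ∀ j, A j ≅ Coh.structureModule X) (bas : Module.Basis (Fin N) k (Coh.HH X Gm 0)) :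
    ∃ π : ∐ A ⟶ Gm, Function.Surjective (hmap π 0) := by
  let one₀ : Coh.HH X (Coh.structureModule X) 0 := (e0 _).symm (Groth.L21.RR.oneSec _)
  let π : ∐ A ⟶ Gm := Sigma.desc fun j => (z j).hom ≫ Groth.L16.homOfSection Gm (e0 _ (bas j))
  refine ⟨π, ?_⟩
  show Function.Surjective (hk k π 0)
  rw [← LinearMap.range_eq_top, eq_top_iff, ← bas.span_eq, Submodule.span_le]
  rintro _ ⟨j, rfl⟩
  refine ⟨hmap ((z j).inv ≫ Sigma.ι A j) 0 one₀, ?_⟩
  refine (Groth.L16.CohLinear.hmap_comp _ π 0 one₀).symm.trans ?_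
  rw [Category.assoc, Sigma.ι_desc, Iso.inv_hom_id_assoc]
  refine (e0 _).injective ?_
  rw [Groth.L21.RR.e0_hmap, AddEquiv.apply_symm_apply]
  exact Groth.L18.GenLoc.secOf_homOfSection _

/-- Three sections generating a globally generated sheaf. -/
theorem exists_pi (Gm : (CohB1.ProjSpace 2 k).Modules) [Module.Finite k (Coh.HH (CohB1.ProjSpace 2 k) Gm 0)]
    (h3 : Module.finrank k (Coh.HH (CohB1.ProjSpace 2 k) Gm 0) = 3) (hgg : Curv2.IsGloballyGenerated Gm) :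
    ∃ π : Fr (r := 2) (k := k) (fun _ : Fin 3 => (0 : ℤ)) ⟶ Gm, Epi π := by
  obtain ⟨z⟩ : Nonempty (Twist.twist (CohB1.polyGrading 2 k) (-0) ≅ Coh.structureModule (CohB1.ProjSpace 2 k)) := by
    rw [neg_zero]; exact Groth.L22.Reg.nonempty_O_zero 2 k
  obtain ⟨π, hπ⟩ := exists_desc_of_sections (fun _ : Fin 3 => Twist.twist (CohB1.polyGrading 2 k) (-0))
    (fun _ => z) (Module.finBasisOfFinrankEq k (Coh.HH (CohB1.ProjSpace 2 k) Gm 0) h3)
  exact ⟨π, epi_of_surjective_h0 π hπ hgg⟩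

/-- The kernel of a surjection from three onto two is a twist. -/
theorem exists_kernel_twist {F₀ Gm : (CohB1.ProjSpace 2 k).Modules} (π : F₀ ⟶ Gm) [Epi π]
    (hF : FlatMod.IsFinLocFreeOfRank 3 F₀) (hG : FlatMod.IsFinLocFreeOfRank 2 Gm) :
    FlatMod.IsFinLocFreeOfRank 1 (kernel π) ∧ ∃ b : ℤ, Nonempty (kernel π ≅ O' 2 k b) := by
  haveI := Groth.L22.PDual.proper 2 k
  haveI := Groth.L21.RR.isNoetherian_of_proper (X := CohB1.ProjSpace 2 k) k
  haveI : IsIntegral (CohB1.ProjSpace 2 k) := Groth.L16.ProjSpace.isIntegral 2 k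
  let T := ShortComplex.mk (kernel.ι π) π (kernel.condition π)
  have hT : T.ShortExact :=
    { exact := T.exact_of_f_is_kernel (kernelIsKernel π), mono_f := inferInstanceAs (Mono (kernel.ι π)),
      epi_g := inferInstanceAs (Epi π) }
  obtain ⟨r, hr⟩ := Groth.L18.KRRAmple.exists_rank (Groth.L29.DC.isFinLocFree_kernel_of_epi π
    (Groth.L22.CurveDeg.isFinLocFree_of_rank hF) (Groth.L22.CurveDeg.isFinLocFree_of_rank hG))
  have hr1 : r = 1 := by
    have := Groth.L16.CohSupport.len_add hT (genericPoint (CohB1.ProjSpace 2 k))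
    rw [show T.X₁ = kernel π from rfl, show T.X₂ = F₀ from rfl, show T.X₃ = Gm from rfl,
      Groth.L22.PDual.len_eq_of_rank hr, Groth.L22.PDual.len_eq_of_rank hF,
      Groth.L22.PDual.len_eq_of_rank hG] at this
    have : (3 : ℕ) = r + 2 := by exact_mod_cast this
    omega
  subst hr1
  exact ⟨hr, Groth.L20.PnPic.exists_iso_twist (n := 2) (R := k) (kernel π)
    (Groth.L03.ShStab.ExtTwistPn.isInvertible_of_rank_one hr)⟩

theorem rank_Fr_zero : FlatMod.IsFinLocFreeOfRank 3 (Fr (r := 2) (k := k) (fun _ : Fin 3 => (0 : ℤ))) := by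
  obtain ⟨z0⟩ := Groth.L22.Reg.nonempty_O_zero 2 k
  exact isFinLocFreeOfRank_iso
    (Sigma.mapIso fun _ => (eqToIso (by rw [neg_zero]; rfl) ≪≫ z0 : Twist.twist (CohB1.polyGrading 2 k) (-0) ≅ _)).symm
    (Groth.L18.QuotChart.isFinLocFreeOfRank_free (CohB1.ProjSpace 2 k) 3)

theorem nonempty_Fr_one : Nonempty (Fr (r := 2) (k := k) (fun _ : Fin 1 => (1 : ℤ)) ≅ O' 2 k (-1)) :=
  ⟨{ hom := Sigma.desc fun _ => 𝟙 _
     inv := Sigma.ι (fun b : Fin 1 => Twist.twist (CohB1.polyGrading 2 k) (-(fun _ : Fin 1 => (1 : ℤ)) b)) 0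
     hom_inv_id := Sigma.hom_ext _ _ fun b => by
       obtain rfl : b = 0 := Subsingleton.elim _ _
       simp
     inv_hom_id := Sigma.ι_desc _ _ }⟩

/-- Degrees in a sequence of sums on the line. -/
theorem degree_eq {S : ShortComplex (CohB1.ProjSpace 1 k).Modules} (hS : S.ShortExact) (h₁ : Coh.IsCoh S.X₁)
    (h₂ : Coh.IsCoh S.X₂) (h₃ : Coh.IsCoh S.X₃) {b c : ℤ} {d : Fin 2 → ℤ} (i₁ : S.X₁ ≅ O' 1 k b)
    (i₂ : S.X₂ ≅ Groth.L21.P1.sumO k fun _ : Fin 3 => c) (i₃ : S.X₃ ≅ Groth.L21.P1.sumO k d) :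
    3 * (c + 1) = b + 1 + (d 0 + 1 + (d 1 + 1)) := by
  haveI := Groth.L22.Reg.isProper_over_proj (k := k) (n := 1)
  have heu := Groth.L21.RR.euler_add k (Groth.L21.P1.topologicalKrullDim_le k) hS h₁ h₂ h₃
  have e1 : Curv2.euler k (CohB1.ProjSpace 1 k) S.X₁ = b + 1 :=
    (Groth.L21.RR.euler_congr k i₁).trans (Groth.L03.VBPn.Jump.euler_OL b)
  have e2 : Curv2.euler k (CohB1.ProjSpace 1 k) S.X₂ = ∑ _l : Fin 3, (c + 1) :=
    (Groth.L21.RR.euler_congr k i₂).trans (Groth.L03.VBPn.Jump.euler_sumL _)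
  have e3 : Curv2.euler k (CohB1.ProjSpace 1 k) S.X₃ = ∑ l, (d l + 1) :=
    (Groth.L21.RR.euler_congr k i₃).trans (Groth.L03.VBPn.Jump.euler_sumL _)
  have h := e2.symm.trans (heu.trans (congrArg₂ (· + ·) e1 e3))
  simp [Fin.sum_univ_three] at h
  linarith

section Plane

variable {E : (CohB1.ProjSpace 2 k).Modules}
  (hl : ∀ (i : CohB1.ProjSpace 1 k ⟶ CohB1.ProjSpace 2 k) [IsClosedImmersion i],
    i ≫ CohB1.ProjSpace.toSpec 2 k = CohB1.ProjSpace.toSpec 1 k →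
    Nonempty ((Scheme.Modules.pullback i).obj (O' 2 k 1) ≅ O' 1 k 1) →
    Nonempty ((Scheme.Modules.pullback i).obj E ≅ ∐ fun l : Fin 2 => O' 1 k (![(0 : ℤ), -((1 : ℕ) : ℤ)] l)))
  (hE : FlatMod.IsFinLocFreeOfRank 2 E) (h0 : Subsingleton (Coh.HH (CohB1.ProjSpace 2 k) E 0))

include hl hE h0

theorem exists_presentation :
    ∃ (π : Fr (r := 2) (k := k) (fun _ : Fin 3 => (0 : ℤ)) ⟶ tw' E 1) (_ : Epi π),
      Nonempty (kernel π ≅ O' 2 k (-1)) := by
  classical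
  obtain ⟨-, hreg, h3⟩ := vanishing_of_h0_eq (d := 1) hl hE rfl h0
  have hEf := Groth.L22.CurveDeg.isFinLocFree_of_rank hE
  haveI := finite_tw hEf 1 0
  obtain ⟨π, hπ⟩ := exists_pi (tw' E 1) h3 (Groth.L22.Reg.Regular.isGloballyGenerated
    (Groth.L16.NegPow.isCoh_of_isFinLocFree hEf) hreg le_rfl)
  haveI := hπ
  have hG2 : FlatMod.IsFinLocFreeOfRank 2 (tw' E 1) :=
    Groth.L03.ShStab.TwistSubbundle.isFinLocFreeOfRank_tensor hE (Groth.L16.ProjTwist.isInvertible_twistProjSpace 2 k 1)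
  have hF0 := rank_Fr_zero (k := k)
  have hGf := Groth.L22.CurveDeg.isFinLocFree_of_rank hG2
  obtain ⟨hr, b, ⟨eK⟩⟩ := exists_kernel_twist π hF0 hG2
  let T := ShortComplex.mk (kernel.ι π) π (kernel.condition π)
  have hT : T.ShortExact :=
    { exact := T.exact_of_f_is_kernel (kernelIsKernel π), mono_f := inferInstanceAs (Mono (kernel.ι π)),
      epi_g := inferInstanceAs (Epi π) }
  refine ⟨π, hπ, ?_⟩
  -- its degree, on a line
  obtain ⟨s, hs⟩ := exists_form (d := 1) hl hE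
  obtain ⟨j, hjc, hjs, hp, -, -⟩ := Groth.L03.VBPn.Lines.exists_hyperplane s hs
  haveI := hjc
  haveI := Groth.L22.Reg.isProper_over_proj (k := k) (n := 1)
  have hTj := Groth.L03.VBPn.shortExact_pullback_of_locFree hT hG2 j
  obtain ⟨u⟩ := Groth.L03.VBPn.nonempty_pullback_twist j hp b
  obtain ⟨eF⟩ := Groth.L03.VBPn.Jump.pullback_Fr j hp 3 (0 : ℤ)
  obtain ⟨eP⟩ := Groth.L03.VBPn.nonempty_pullback_tw j hp E 1
  obtain ⟨eL⟩ := hl j hjs hp
  obtain ⟨zs⟩ := Groth.L21.P1.nonempty_tensor_sumO (k := k) 1 ![(0 : ℤ), -((1 : ℕ) : ℤ)]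
  let i1 : (T.map (Scheme.Modules.pullback j)).X₁ ≅ O' 1 k b := (Scheme.Modules.pullback j).mapIso eK ≪≫ u
  let i3 : (T.map (Scheme.Modules.pullback j)).X₃ ≅ Groth.L21.P1.sumO k (fun l => 1 + ![(0 : ℤ), -((1 : ℕ) : ℤ)] l) :=
    eP ≪≫ tensorComm _ _ ≪≫ tensorIso (Iso.refl _) (eL ≪≫ (biproduct.isoCoproduct _).symm) ≪≫ zs
  have hcoh : ∀ {M : (CohB1.ProjSpace 2 k).Modules}, FlatMod.IsFinLocFree M → Coh.IsCoh ((Scheme.Modules.pullback j).obj M) :=
    fun {M} hM => Groth.L16.NegPow.isCoh_of_isFinLocFree (Groth.L20.DescLocus.isFinLocFree_pullback j hM)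
  have heu := degree_eq hTj (hcoh (Groth.L22.CurveDeg.isFinLocFree_of_rank hr))
    (hcoh (Groth.L22.CurveDeg.isFinLocFree_of_rank hF0)) (hcoh hGf) i1 eF i3
  simp at heu
  obtain rfl : b = -1 := by omega
  exact ⟨eK⟩

/-- The presentation by independent linear forms. -/
theorem exists_forms_presentation :
    ∃ (A : Fin 3 → Fin 1 → S 2 k) (hA : ∀ a b, A a b ∈ G 2 k ((fun _ : Fin 1 => (1 : ℤ)) b - (fun _ : Fin 3 => (0 : ℤ)) a))
      (π : Fr (r := 2) (k := k) (fun _ : Fin 3 => (0 : ℤ)) ⟶ tw' E 1),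
      Epi π ∧ matHom A hA ≫ π = 0 ∧
      (∀ (T : (PS 2 k).Modules) (f : Fr (r := 2) (k := k) (fun _ : Fin 3 => (0 : ℤ)) ⟶ T),
        matHom A hA ≫ f = 0 → ∃ f', π ≫ f' = f) ∧
      (∀ c : Fin 3 → k, ∑ a, c a • A a 0 = 0 → c = 0) := by
  classical
  obtain ⟨π, hπ, ⟨eK⟩⟩ := exists_presentation hl hE h0
  haveI := hπ
  let dp : Fin 1 → ℤ := fun _ => 1
  let dq : Fin 3 → ℤ := fun _ => 0
  obtain ⟨q1⟩ := nonempty_Fr_one (k := k)
  haveI : Epi q1.hom := IsIso.epi_of_iso q1.hom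
  haveI : Epi eK.inv := IsIso.epi_of_iso eK.inv
  obtain ⟨A, hA, hAe⟩ := exists_matHom (n := 2) (by omega)
    (show Fr (r := 2) (k := k) dp ⟶ Fr dq from q1.hom ≫ eK.inv ≫ kernel.ι π)
  have hzero : matHom A hA ≫ π = 0 := by
    rw [← hAe]
    show (q1.hom ≫ eK.inv ≫ kernel.ι π) ≫ π = 0
    simp only [Category.assoc, kernel.condition, comp_zero]
  have hdesc : ∀ (T : (PS 2 k).Modules) (f : Fr (r := 2) (k := k) dq ⟶ T),
      matHom A hA ≫ f = 0 → ∃ f', π ≫ f' = f := fun T f hf => by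
    rw [← hAe] at hf
    have hf' : kernel.ι π ≫ f = 0 := by
      rw [← cancel_epi eK.inv, ← cancel_epi q1.hom, comp_zero, comp_zero]
      simpa only [Category.assoc] using hf
    exact ⟨Abelian.epiDesc π _ hf', Abelian.comp_epiDesc π _ hf'⟩
  refine ⟨A, hA, π, hπ, hzero, hdesc, fun c hc => ?_⟩
  by_contra hc0
  -- a combination killing the forms gives a section
  let v : Fin 3 → S 2 k := fun a => MvPolynomial.C (c a)
  have hv : ∀ a, v a ∈ G 2 k (0 + dq a) := fun a =>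
    (mem_G_cast (i := 0)).2 (MvPolynomial.isHomogeneous_C _ (c a))
  obtain ⟨φ, hφ⟩ := hdesc _ (rowHom 0 v hv) ((matHom_rowHom_eq_zero_iff A hA _ v hv).2 fun b => by
    obtain rfl : b = 0 := Subsingleton.elim _ _
    simpa [v, MvPolynomial.smul_eq_C_mul] using hc)
  have hφ0 : φ ≠ 0 := fun h => hc0 (funext fun a => by
    rw [h, comp_zero] at hφ
    simpa [v] using congrFun ((rowHom_eq_zero_iff _ v hv).1 hφ.symm) a)
  -- untwist
  obtain ⟨ω⟩ := Groth.L03.ShStab.Rank2.exists_twist_inverse (k := k) (n := 2) (1 : ℤ)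
  obtain ⟨j0⟩ := Groth.L22.Reg.nonempty_O_add (n := 2) (R := k) (show (0 : ℤ) + -1 = -1 from rfl)
  let ψ : E ⟶ O' 2 k (-1) := (cI ω E).inv ≫ tensorMap φ (𝟙 _) ≫ j0.hom
  have hψ : ψ ≠ 0 := fun h => by
    refine Groth.L03.ShStab.Rank2.tensorMap_ne_zero (tensorComm _ _ ≪≫ ω) hφ0 ?_
    rw [← cancel_mono j0.hom, ← cancel_epi (cI ω E).inv, zero_comp, comp_zero]
    exact h
  -- the determinant
  haveI : IsIntegral (CohB1.ProjSpace 2 k) := Groth.L16.ProjSpace.isIntegral 2 k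
  haveI := Groth.L22.PDual.proper 2 k
  haveI := Groth.L21.RR.isNoetherian_of_proper (X := CohB1.ProjSpace 2 k) k
  haveI := Groth.L03.ShStab.Rank2.isQCoh_of_rank hE
  obtain ⟨L, hL⟩ := Groth.L12.ExtSh.exists_isExtPow (X := CohB1.ProjSpace 2 k) (E := E) (i := 2)
  obtain ⟨ext, hext⟩ := hL
  obtain ⟨c₁, ⟨ξ⟩⟩ := Groth.L20.PnPic.exists_iso_twist (n := 2) (R := k) L
    (Groth.L22.CurveDeg.Det.isInvertible_of_extPow ext hext hE)
  obtain ⟨s, hs⟩ := exists_form (d := 1) hl hE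
  obtain ⟨i, hic, his, hi1, -, -⟩ := Groth.L03.VBPn.Lines.exists_hyperplane s hs
  haveI := hic
  obtain ⟨el⟩ := hl i his hi1
  have hc1 := det_splitting i hi1 hE ⟨ext, hext⟩ ξ (d := ![(0 : ℤ), -((1 : ℕ) : ℤ)])
    (biproduct.isoCoproduct _ ≪≫ el.symm)
  simp at hc1
  obtain ⟨ζ⟩ := Groth.L03.ShStab.Rank2.exists_twist_inverse (k := k) (n := 2) (-1 : ℤ)
  obtain ⟨D, hD⟩ := Groth.L03.ShStab.Rank2.exists_copairing ext hext (M := O' 2 k (-1))
    (M' := O' 2 k (-(-1))) ψ ζ.hom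
  have hD0 := Groth.L03.ShStab.Rank2.copairing_ne_zero ext hE
    (Groth.L16.ProjTwist.isInvertible_twistProjSpace 2 k _)
    (Groth.L16.ProjTwist.isInvertible_twistProjSpace 2 k _) hψ ζ hD
  obtain ⟨l⟩ := Groth.L22.Reg.nonempty_O_add (n := 2) (R := k) (show c₁ + -(-1) = 0 by omega)
  let t := tensorIso ξ (Iso.refl (O' 2 k (-(-1)))) ≪≫ l
  have ht : t.inv ≫ D ≠ 0 := fun h => hD0 (by rw [← cancel_epi t.inv, h, comp_zero])
  obtain ⟨zE⟩ := Groth.L22.Reg.nonempty_tw_zero E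
  exact Groth.L03.ShStab.Rank2.not_subsingleton_of_hom hE (show -(0 : ℤ) ≤ 0 by omega) ht
    (Groth.L22.Reg.subsingleton_iso zE.symm 0 h0)

end Plane

/-- Two such bundles are isomorphic. -/
theorem nonempty_iso {E E' : (CohB1.ProjSpace 2 k).Modules}
    (hl : ∀ (i : CohB1.ProjSpace 1 k ⟶ CohB1.ProjSpace 2 k) [IsClosedImmersion i],
      i ≫ CohB1.ProjSpace.toSpec 2 k = CohB1.ProjSpace.toSpec 1 k →
      Nonempty ((Scheme.Modules.pullback i).obj (O' 2 k 1) ≅ O' 1 k 1) →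
      Nonempty ((Scheme.Modules.pullback i).obj E ≅ ∐ fun l : Fin 2 => O' 1 k (![(0 : ℤ), -((1 : ℕ) : ℤ)] l)))
    (hE : FlatMod.IsFinLocFreeOfRank 2 E) (h0 : Subsingleton (Coh.HH (CohB1.ProjSpace 2 k) E 0))
    (hl' : ∀ (i : CohB1.ProjSpace 1 k ⟶ CohB1.ProjSpace 2 k) [IsClosedImmersion i],
      i ≫ CohB1.ProjSpace.toSpec 2 k = CohB1.ProjSpace.toSpec 1 k →
      Nonempty ((Scheme.Modules.pullback i).obj (O' 2 k 1) ≅ O' 1 k 1) →
      Nonempty ((Scheme.Modules.pullback i).obj E' ≅ ∐ fun l : Fin 2 => O' 1 k (![(0 : ℤ), -((1 : ℕ) : ℤ)] l)))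
    (hE' : FlatMod.IsFinLocFreeOfRank 2 E') (h0' : Subsingleton (Coh.HH (CohB1.ProjSpace 2 k) E' 0)) :
    Nonempty (tw' E 1 ≅ tw' E' 1) := by
  classical
  obtain ⟨A, hA, π, hπ, hz, hd, hi⟩ := exists_forms_presentation hl hE h0
  obtain ⟨A', hA', π', hπ', hz', hd', hi'⟩ := exists_forms_presentation hl' hE' h0'
  haveI := hπ
  haveI := hπ'
  have hlin : ∀ (B : Fin 3 → Fin 1 → S 2 k), (∀ a b, B a b ∈ G 2 k ((1 : ℤ) - 0)) → ∀ a,
      B a 0 ∈ MvPolynomial.homogeneousSubmodule (Fin (2 + 1)) k 1 := fun B hB a => by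
    have := hB a 0
    rw [sub_zero] at this
    exact (mem_G_cast (i := 1)).1 this
  haveI := (Groth.L03.PlanePoints.finrank_homogeneous (F := k) 2 1).1
  have hexp : ∀ (B C : Fin 3 → Fin 1 → S 2 k), (∀ a b, B a b ∈ G 2 k ((1 : ℤ) - 0)) → (∀ a b, C a b ∈ G 2 k ((1 : ℤ) - 0)) →
      (∀ c : Fin 3 → k, ∑ a, c a • B a 0 = 0 → c = 0) → ∃ g : Fin 3 → Fin 3 → k, ∀ a, ∑ b, g a b • B b 0 = C a 0 := by
    intro B C hB hC hBi
    let v : Fin 3 → MvPolynomial.homogeneousSubmodule (Fin (2 + 1)) k 1 := fun a => ⟨B a 0, hlin B hB a⟩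
    have hli : LinearIndependent k v := Fintype.linearIndependent_iff.2 fun c hc => congrFun (hBi c
      (by simpa [v] using congrArg Subtype.val hc))
    have hspan := hli.span_eq_top_of_card_eq_finrank (by
      rw [(Groth.L03.PlanePoints.finrank_homogeneous (F := k) 2 1).2]; rfl)
    choose g hg using fun a => (Submodule.mem_span_range_iff_exists_fun k).1
      (hspan.ge (Submodule.mem_top (x := ⟨C a 0, hlin C hC a⟩)))
    exact ⟨g, fun a => by simpa [v] using congrArg Subtype.val (hg a)⟩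
  obtain ⟨g, hg⟩ := hexp A A' hA hA' hi
  obtain ⟨g', hg'⟩ := hexp A' A hA' hA hi'
  have hC : ∀ (g : Fin 3 → Fin 3 → k) (a b : Fin 3),
      MvPolynomial.C (g a b) ∈ G 2 k ((fun _ : Fin 3 => (0 : ℤ)) b - (fun _ : Fin 3 => (0 : ℤ)) a) := fun g a b =>
    (mem_G_cast (i := 0)).2 (MvPolynomial.isHomogeneous_C _ (g a b))
  let θ := matHom (fun a b => MvPolynomial.C (g a b)) (hC g)
  let θ' := matHom (fun a b => MvPolynomial.C (g' a b)) (hC g')
  have hθ : matHom A hA ≫ θ = matHom A' hA' := by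
    obtain ⟨hdd, e⟩ := matHom_comp A hA (fun a b => MvPolynomial.C (g a b)) (hC g)
    rw [e]
    congr 1
    funext a b
    obtain rfl : b = 0 := Subsingleton.elim _ _
    simp only [← hg, MvPolynomial.smul_eq_C_mul]
  have hθ' : matHom A' hA' ≫ θ' = matHom A hA := by
    obtain ⟨hdd, e⟩ := matHom_comp A' hA' (fun a b => MvPolynomial.C (g' a b)) (hC g')
    rw [e]
    congr 1
    funext a b
    obtain rfl : b = 0 := Subsingleton.elim _ _
    simp only [← hg', MvPolynomial.smul_eq_C_mul]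
  have hone : ∀ (g g' : Fin 3 → Fin 3 → k) (B B' : Fin 3 → Fin 1 → S 2 k),
      (∀ c : Fin 3 → k, ∑ a, c a • B a 0 = 0 → c = 0) → (∀ a, ∑ b, g a b • B b 0 = B' a 0) →
      (∀ a, ∑ b, g' a b • B' b 0 = B a 0) →
      matHom (fun a b => MvPolynomial.C (g a b)) (hC g) ≫ matHom (fun a b => MvPolynomial.C (g' a b)) (hC g') = 𝟙 _ := by
    intro g g' B B' hBi h1 h2
    obtain ⟨hdd, e⟩ := matHom_comp (fun a b => MvPolynomial.C (g a b)) (hC g)
      (fun a b => MvPolynomial.C (g' a b)) (hC g')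
    rw [e]
    refine matHom_one _ _ fun a b => ?_
    have key : (fun b => (∑ l, g' a l * g l b) - if a = b then 1 else 0) = 0 := hBi _ (by
      simp only [sub_smul, Finset.sum_sub_distrib, ite_smul, one_smul, zero_smul, Finset.sum_ite_eq, Finset.mem_univ,
        if_true, Finset.sum_smul, mul_smul]
      rw [Finset.sum_comm, sub_eq_zero, ← h2 a]
      exact Finset.sum_congr rfl fun l _ => by rw [← h1 l, Finset.smul_sum])
    have := sub_eq_zero.1 (congrFun key b)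
    simp only [← map_mul, ← map_sum, this, apply_ite MvPolynomial.C, map_one, map_zero]
  obtain ⟨χ, hχ⟩ := hd _ (θ ≫ π') (by rw [← Category.assoc, hθ, hz'])
  obtain ⟨χ', hχ'⟩ := hd' _ (θ' ≫ π) (by rw [← Category.assoc, hθ', hz])
  refine ⟨⟨χ, χ', ?_, ?_⟩⟩
  · rw [← cancel_epi π, ← Category.assoc, hχ, Category.assoc, hχ', ← Category.assoc,
      show θ ≫ θ' = 𝟙 _ from hone g g' A A' hi hg hg', Category.id_comp, Category.comp_id]
  · rw [← cancel_epi π', ← Category.assoc, hχ', Category.assoc, hχ, ← Category.assoc,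
      show θ' ≫ θ = 𝟙 _ from hone g' g A' A hi' hg' hg, Category.id_comp, Category.comp_id]

end Groth.L03.VBPn.VdV
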