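import Groth.Agent.L03.VBPn.VdV.Alg
import Groth.Agent.L03.VBPn.Lines.Main
import Groth.Agent.L21.P1.PullTwist
import Groth.Agent.L22.Reg.PnGen

/-!
# Multiplication by linear forms, counted
-/

set_option autoImplicit false
set_option linter.style.haveILetI false
set_option linter.unusedSectionVars false
set_option backward.isDefEq.respectTransparency false
set_option backward.isDefEq.respectTransparency.types false

universe u

open CategoryTheory CategoryTheory.Limits AlgebraicGeometry TopologicalSpace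
open Groth.L22.Reg (O' tw')
open Groth.L21.RR (h hk h_congr finite_HH')
open Groth.L16
open Groth.L16.CohLinear (hmap hmap_comp exact_hmap_hmap exact_hmap_delta exact_delta_hmap overLin delta)
open Groth.L00.Tensor (tensorIso tensorComm tensorAssoc tensorUnitLeft tensorUnitRight tensorRightF)
open Groth.L03.VBPn.Lines (ψ)

noncomputable section

namespace Groth.L03.VBPn.VdV

/-- Counting along four maps in an exact sequence. -/
theorem finrank_exact5 {k : Type u} [Field k] {M₁ M₂ M₃ M₄ M₅ : Type u} [AddCommGroup M₁] [Module k M₁]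
    [AddCommGroup M₂] [Module k M₂] [AddCommGroup M₃] [Module k M₃] [AddCommGroup M₄] [Module k M₄]
    [AddCommGroup M₅] [Module k M₅] [FiniteDimensional k M₁] [FiniteDimensional k M₂] [FiniteDimensional k M₃]
    [FiniteDimensional k M₄] {f₁ : M₁ →ₗ[k] M₂} {f₂ : M₂ →ₗ[k] M₃} {f₃ : M₃ →ₗ[k] M₄} {f₄ : M₄ →ₗ[k] M₅}
    (h₁ : Function.Injective f₁) (e₁ : Function.Exact f₁ f₂) (e₂ : Function.Exact f₂ f₃) (e₃ : Function.Exact f₃ f₄) :
    Module.finrank k M₁ + Module.finrank k M₃ = Module.finrank k M₂ + Module.finrank k (LinearMap.ker f₄) := by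
  have r₁ := f₁.finrank_range_add_finrank_ker
  have r₂ := f₂.finrank_range_add_finrank_ker
  have r₃ := f₃.finrank_range_add_finrank_ker
  rw [LinearMap.ker_eq_bot.2 h₁, finrank_bot] at r₁
  rw [LinearMap.exact_iff.1 e₁] at r₂
  rw [LinearMap.exact_iff.1 e₂] at r₃
  rw [LinearMap.exact_iff.1 e₃]
  omega


/-- A short exact sequence, counted in low degrees. -/
theorem count_seq {k : Type u} [Field k] {X : Scheme.{u}} [X.Over (Spec (CommRingCat.of k))]
    [IsProper (X ↘ Spec (CommRingCat.of k))] {S : ShortComplex X.Modules} (hS : S.ShortExact)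
    {A B : X.Modules} (a : A ≅ S.X₁) (b : S.X₂ ≅ B) {M : Type u} [AddCommGroup M] [Module k M]
    (g : Coh.HH X S.X₃ 0 ≃ₗ[k] M) [FiniteDimensional k (Coh.HH X A 0)] [FiniteDimensional k (Coh.HH X A 1)]
    [FiniteDimensional k (Coh.HH X B 0)] [FiniteDimensional k M] :
    h k 0 A + Module.finrank k M = h k 0 B + Module.finrank k (LinearMap.ker (hk k (a.hom ≫ S.f) 1)) := by
  haveI : Module.Finite k (Coh.HH X S.X₁ 0) := Module.Finite.equiv (Groth.L03.SurfAdj.hhEquiv k a 0)
  haveI : Module.Finite k (Coh.HH X S.X₁ 1) := Module.Finite.equiv (Groth.L03.SurfAdj.hhEquiv k a 1)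
  haveI : Module.Finite k (Coh.HH X S.X₂ 0) := Module.Finite.equiv (Groth.L03.SurfAdj.hhEquiv k b 0).symm
  haveI : Module.Finite k (Coh.HH X S.X₃ 0) := Module.Finite.equiv g.symm
  haveI := hS.mono_f
  have key := finrank_exact5 (f₁ := hk k S.f 0) (f₂ := hk k S.g 0) (f₃ := overLin k (delta hS 0))
    (f₄ := hk k S.f 1) (Groth.L21.RR.injective_hmap_zero S.f) (exact_hmap_hmap hS 0) (exact_hmap_delta hS 0)
    (exact_delta_hmap hS 0)
  have hψ : hk k (a.hom ≫ S.f) 1 = hk k S.f 1 ∘ₗ (Groth.L03.SurfAdj.hhEquiv k a 1).toLinearMap :=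
    LinearMap.ext fun x => hmap_comp a.hom S.f 1 x
  rw [hψ, LinearMap.ker_comp, Submodule.comap_equiv_eq_map_symm, LinearEquiv.finrank_map_eq]
  rw [(Groth.L03.SurfAdj.hhEquiv k a 0).finrank_eq.symm, g.finrank_eq,
    (Groth.L03.SurfAdj.hhEquiv k b 0).finrank_eq] at key
  exact key

variable {k : Type u} [Field k] [IsAlgClosed k]

theorem finite_tw {n : ℕ} {E : (CohB1.ProjSpace n k).Modules} (hE : FlatMod.IsFinLocFree E) (t : ℤ) (p : ℕ) :
    Module.Finite k (Coh.HH (CohB1.ProjSpace n k) (tw' E t) p) := by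
  haveI := Groth.L22.PDual.proper n k
  haveI := Groth.L21.RR.isNoetherian_of_proper (X := CohB1.ProjSpace n k) k
  exact finite_HH' k (Groth.L22.PDual.isCoh_tw (Groth.L16.NegPow.isCoh_of_isFinLocFree hE) t) p

/-- The sequence of a linear form, counted. -/
theorem exists_mult_dim {n : ℕ} {E : (CohB1.ProjSpace (n + 1) k).Modules} (hE : FlatMod.IsFinLocFree E) (t : ℤ)
    (s : Coh.structureModule (CohB1.ProjSpace (n + 1) k) ⟶ O' (n + 1) k 1) (hs : s ≠ 0)
    (j : CohB1.ProjSpace n k ⟶ CohB1.ProjSpace (n + 1) k) [IsClosedImmersion j]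
    (hj : j ≫ CohB1.ProjSpace.toSpec (n + 1) k = CohB1.ProjSpace.toSpec n k)
    (h1 : Nonempty ((Scheme.Modules.pullback j).obj (O' (n + 1) k 1) ≅ O' n k 1))
    (hker : j.ker = PicF2.zeroScheme _ s) :
    h k 0 (tw' E t) + h k 0 (tw' ((Scheme.Modules.pullback j).obj E) (t + 1)) =
      h k 0 (tw' E (t + 1)) + Module.finrank k (LinearMap.ker (hk k (ψ (tw' E t) s) 1)) := by
  let P := CohB1.ProjSpace (n + 1) k
  let F := tw' E t
  let L := O' (n + 1) k 1
  haveI := Groth.L22.PDual.proper (n + 1) k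
  haveI := Groth.L21.RR.isNoetherian_of_proper (X := P) k
  haveI : IsIntegral P := ProjSpace.isIntegral (n + 1) k
  have hL : PicF.IsInvertible L := ProjTwist.isInvertible_twistProjSpace _ k _
  have hFf : FlatMod.IsFinLocFree F := Groth.L29.DC.isFinLocFree_tensor hE
    (Groth.L20.ResDescent.isFinLocFree_of_isInvertible (ProjTwist.isInvertible_twistProjSpace _ k _))
  have hEt : FlatMod.IsFinLocFree (tw' E (t + 1)) := Groth.L29.DC.isFinLocFree_tensor hE
    (Groth.L20.ResDescent.isFinLocFree_of_isInvertible (ProjTwist.isInvertible_twistProjSpace _ k _))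
  haveI : Mono s :=
    Groth.L22.PDual.mono_of_ne_zero (Groth.L18.Ample.isInvertible_structureModule _) hL hs
  let S₀ := ShortComplex.mk s (cokernel.π s) (cokernel.condition s)
  have hS₀ : S₀.ShortExact := { exact := ShortComplex.exact_cokernel s }
  have hS := Groth.L16.FrameIso.shortExact_tensor_left (Groth.L29.DC.isFlat_of_isFinLocFree hFf) _ hS₀
  obtain ⟨ec⟩ := Groth.L29.Twist.nonempty_cokernel_section hL s
  obtain ⟨ep⟩ : Nonempty ((Scheme.Modules.pushforward j).obj (Coh.structureModule (CohB1.ProjSpace n k)) ≅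
      ClSub.quotMod (PicF2.zeroScheme L s)) := by
    rw [← hker]
    obtain ⟨u⟩ := Groth.L03.BlowPt.nonempty_push_structure j.toImage
    exact ⟨(Scheme.Modules.pushforwardCongr (Scheme.Hom.toImage_imageι j).symm).app _ ≪≫
      ((Scheme.Modules.pushforwardComp j.toImage j.ker.subschemeι).app _).symm ≪≫
      (Scheme.Modules.pushforward j.ker.subschemeι).mapIso u⟩
  haveI : Coh.IsQCoh (Coh.structureModule (CohB1.ProjSpace n k)) :=
    Groth.L21.Extend.isQCoh_of_isInvertible (Groth.L18.Ample.isInvertible_structureModule _)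
  haveI : Coh.IsQCoh ((Scheme.Modules.pullback j).obj (tw' E (t + 1))) :=
    Groth.L29.DC.PCQCoh.isQCoh_of_isFinLocFree (Groth.L20.DescLocus.isFinLocFree_pullback j hEt)
  haveI := Groth.L17.ProjFormula.isIso_θ j (tw' E (t + 1)) (Coh.structureModule (CohB1.ProjSpace n k)) hEt
  obtain ⟨eP⟩ := nonempty_pullback_tw j h1 E (t + 1)
  obtain ⟨e2⟩ := Groth.L22.Reg.nonempty_tw_tw E (show t + 1 = t + 1 from rfl)
  let e3 : CohB1.tensorMod F (cokernel s) ≅
      (Scheme.Modules.pushforward j).obj (tw' ((Scheme.Modules.pullback j).obj E) (t + 1)) :=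
    tensorIso (Iso.refl _) ec ≪≫ (tensorAssoc _ _ _).symm ≪≫ tensorIso e2 ep.symm ≪≫
      asIso (Groth.L17.ClosedPush.θ j (Coh.structureModule (CohB1.ProjSpace n k)) (tw' E (t + 1))) ≪≫
      (Scheme.Modules.pushforward j).mapIso (tensorUnitRight _ ≪≫ eP)
  let T := (ShortComplex.mk ((tensorRightF F).map s) ((tensorRightF F).map (cokernel.π s))
    (by rw [← Functor.map_comp, cokernel.condition, Functor.map_zero]))
  have hT : T.ShortExact :=
    ShortComplex.shortExact_of_iso (S₀.mapNatIso (Groth.L00.Tensor.tensorFlipIso F).symm) hS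
  let a : F ≅ T.X₁ := (tensorUnitLeft F).symm
  let b : T.X₂ ≅ tw' E (t + 1) := tensorComm _ _ ≪≫ e2
  let c3 : T.X₃ ≅ (Scheme.Modules.pushforward j).obj (tw' ((Scheme.Modules.pullback j).obj E) (t + 1)) :=
    tensorComm _ _ ≪≫ e3
  obtain ⟨g⟩ := Groth.L14.LocHilbLift.nonempty_HH_pushEquiv (k := k) j hj
    (tw' ((Scheme.Modules.pullback j).obj E) (t + 1)) 0
  haveI := finite_tw hE t 0
  haveI := finite_tw hE t 1
  haveI := finite_tw hE (t + 1) 0
  haveI : Module.Finite k (Coh.HH (CohB1.ProjSpace n k) (tw' ((Scheme.Modules.pullback j).obj E) (t + 1)) 0) :=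
    finite_tw (Groth.L20.DescLocus.isFinLocFree_pullback j hE) (t + 1) 0
  exact count_seq (k := k) hT a b ((Groth.L03.SurfAdj.hhEquiv k c3 0).trans g)

section Mult

variable {n : ℕ}

/-- A twist up. -/
def up (F : (CohB1.ProjSpace n k).Modules) (t : ℤ) : (tensorRightF (tw' F t)).obj (O' n k 1) ≅ tw' F (t + 1) :=
  tensorComm _ _ ≪≫ (Groth.L22.Reg.nonempty_tw_tw F (rfl : t + 1 = _)).some

/-- Multiplication by a form. -/
def mult (F : (CohB1.ProjSpace n k).Modules) (t : ℤ) (s : Coh.structureModule (CohB1.ProjSpace n k) ⟶ O' n k 1) :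
    Coh.HH (CohB1.ProjSpace n k) (tw' F t) 1 →ₗ[k] Coh.HH (CohB1.ProjSpace n k) (tw' F (t + 1)) 1 :=
  hk k (((tensorUnitLeft (tw' F t)).inv ≫ (tensorRightF (tw' F t)).map s) ≫ (up F t).hom) 1

theorem mult_add (F : (CohB1.ProjSpace n k).Modules) (t : ℤ)
    (s s' : Coh.structureModule (CohB1.ProjSpace n k) ⟶ O' n k 1) : mult F t (s + s') = mult F t s + mult F t s' := by
  haveI := Groth.L00.Tensor.preservesColimits_tensorRightF (tw' F t)
  haveI : (tensorRightF (tw' F t)).Additive := inferInstance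
  refine LinearMap.ext fun x => ?_
  show hmap _ 1 x = hmap _ 1 x + hmap _ 1 x
  rw [Functor.map_add, Preadditive.comp_add, Preadditive.add_comp]
  exact Groth.L21.RR.hmap_add _ _ 1 x

theorem mult_smul (F : (CohB1.ProjSpace n k).Modules) (t : ℤ) (c : k)
    (s : Coh.structureModule (CohB1.ProjSpace n k) ⟶ O' n k 1) : mult F t (c • s) = c • mult F t s := by
  refine LinearMap.ext fun x => ?_
  have h : ((tensorUnitLeft (tw' F t)).inv ≫ (tensorRightF (tw' F t)).map (c • s)) ≫ (up F t).hom =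
      c • (((tensorUnitLeft (tw' F t)).inv ≫ (tensorRightF (tw' F t)).map s) ≫ (up F t).hom) := by
    rw [← Category.comp_id s, ← Linear.comp_smul, Functor.map_comp, Functor.map_comp,
      Groth.L03.VBPn.tensorRightF_map_smul, Linear.comp_smul, CategoryTheory.Functor.map_id, Linear.comp_smul,
      Linear.smul_comp]
  show hmap (_ ≫ (up F t).hom) 1 x = c • hmap (_ ≫ (up F t).hom) 1 x
  rw [h, KLin.smul_def, hmap_comp]
  exact map_smul (overLin k (hmap _ 1)) c x

theorem mult_sum (F : (CohB1.ProjSpace n k).Modules) (t : ℤ) (a : Fin 3 → k)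
    (s : Fin 3 → (Coh.structureModule (CohB1.ProjSpace n k) ⟶ O' n k 1)) :
    mult F t (∑ i, a i • s i) = a 0 • mult F t (s 0) + a 1 • mult F t (s 1) + a 2 • mult F t (s 2) := by
  rw [Fin.sum_univ_three, mult_add, mult_add, mult_smul, mult_smul, mult_smul]

end Mult

theorem mult_facts {n : ℕ} {E : (CohB1.ProjSpace (n + 1) k).Modules} (hE : FlatMod.IsFinLocFree E) (t : ℤ)
    (s : Coh.structureModule (CohB1.ProjSpace (n + 1) k) ⟶ O' (n + 1) k 1) (hs : s ≠ 0)
    (j : CohB1.ProjSpace n k ⟶ CohB1.ProjSpace (n + 1) k) [IsClosedImmersion j]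
    (hj : j ≫ CohB1.ProjSpace.toSpec (n + 1) k = CohB1.ProjSpace.toSpec n k)
    (h1 : Nonempty ((Scheme.Modules.pullback j).obj (O' (n + 1) k 1) ≅ O' n k 1))
    (hker : j.ker = PicF2.zeroScheme _ s) :
    (h k 0 (tw' E t) + h k 0 (tw' ((Scheme.Modules.pullback j).obj E) (t + 1)) =
        h k 0 (tw' E (t + 1)) + Module.finrank k (LinearMap.ker (mult E t s))) ∧
      (Subsingleton (Coh.HH (CohB1.ProjSpace n k) (tw' ((Scheme.Modules.pullback j).obj E) (t + 1)) 1) →
        Function.Surjective (mult E t s)) := by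
  have hm : mult E t s = (Groth.L03.SurfAdj.hhEquiv k (up E t) 1).toLinearMap ∘ₗ hk k (ψ (tw' E t) s) 1 :=
    LinearMap.ext fun x => hmap_comp (ψ (tw' E t) s) (up E t).hom 1 x
  refine ⟨?_, fun h0 => ?_⟩
  · rw [hm, LinearMap.ker_comp_of_ker_eq_bot _ (LinearEquiv.ker _)]
    exact exists_mult_dim hE t s hs j hj h1 hker
  · rw [hm]
    exact (Groth.L03.SurfAdj.hhEquiv k (up E t) 1).surjective.comp
      ((Groth.L03.VBPn.Lines.exists_mult_seq hE t s hs j hj h1 hker).2 h0)

/-- Twists of a split bundle on the line. -/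
theorem h_line {M : (CohB1.ProjSpace 1 k).Modules} {d : ℕ}
    (hM : Nonempty (M ≅ ∐ fun l : Fin 2 => O' 1 k (![(0 : ℤ), -(d : ℤ)] l))) (t : ℤ) :
    h k 0 (tw' M t) = (t + 1).toNat + (t - d + 1).toNat ∧
      ((-1 : ℤ) ≤ t - d → Subsingleton (Coh.HH (CohB1.ProjSpace 1 k) (tw' M t) 1)) := by
  obtain ⟨e⟩ := hM
  haveI := Groth.L22.Reg.isProper_over_proj (k := k) (n := 1)
  obtain ⟨z⟩ := Groth.L21.P1.nonempty_tensor_sumO (k := k) t ![(0 : ℤ), -(d : ℤ)]
  let i : tw' M t ≅ Groth.L21.P1.sumO k (fun l => t + ![(0 : ℤ), -(d : ℤ)] l) :=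
    tensorComm _ _ ≪≫ tensorIso (Iso.refl _) (e ≪≫ (biproduct.isoCoproduct _).symm) ≪≫ z
  refine ⟨?_, fun ht => Groth.L22.PDual.subsingleton_sigma_mid _ e t fun l => ⟨fun h => by omega, fun h => ?_⟩⟩
  · rw [h_congr k i 0, Groth.L21.P1.h_sumO k _ 0, Fin.sum_univ_two]
    simp [(Groth.L21.P1.h_O k _).1, sub_eq_add_neg]
  · fin_cases l <;> simp at h <;> omega

/-- Three independent linear forms. -/
theorem exists_forms : ∃ s : Fin 3 → (Coh.structureModule (CohB1.ProjSpace 2 k) ⟶ O' 2 k 1),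
    ∀ a : Fin 3 → k, (∑ i, a i • s i) = 0 → a = 0 := by
  obtain ⟨e⟩ := ProjSpace.nonempty_H0_twist_linearEquiv 2 k 1
  haveI := (Groth.L03.PlanePoints.finrank_homogeneous (F := k) 2 1).1
  haveI : Module.Finite k (Coh.HH (CohB1.ProjSpace 2 k) (O' 2 k 1) 0) := Module.Finite.equiv e.symm
  have h3 : Module.finrank k (Coh.HH (CohB1.ProjSpace 2 k) (O' 2 k 1) 0) = 3 := by
    refine e.finrank_eq.trans ?_
    rw [(Groth.L03.PlanePoints.finrank_homogeneous (F := k) 2 1).2]; rfl
  let bas := Module.finBasisOfFinrankEq k _ h3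
  let one₀ : Coh.HH (CohB1.ProjSpace 2 k) (Coh.structureModule (CohB1.ProjSpace 2 k)) 0 :=
    (Groth.L21.RR.e0 _).symm (Groth.L21.RR.oneSec _)
  let ev : (Coh.structureModule (CohB1.ProjSpace 2 k) ⟶ O' 2 k 1) → Coh.HH (CohB1.ProjSpace 2 k) (O' 2 k 1) 0 :=
    fun f => hmap f 0 one₀
  have hev : ∀ z, ev (Groth.L16.homOfSection _ (Groth.L21.RR.e0 _ z)) = z := fun z => by
    refine (Groth.L21.RR.e0 _).injective ?_
    show Groth.L21.RR.e0 _ (hmap _ 0 _) = _
    rw [Groth.L21.RR.e0_hmap, AddEquiv.apply_symm_apply]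
    exact Groth.L18.GenLoc.secOf_homOfSection _
  have hadd : ∀ f g, ev (f + g) = ev f + ev g := fun f g => Groth.L21.RR.hmap_add _ _ 0 one₀
  have hsmul : ∀ (c : k) f, ev (c • f) = c • ev f := fun c f => by
    show hmap (c • f) 0 one₀ = c • hmap f 0 one₀
    rw [KLin.smul_def, hmap_comp]
    exact map_smul (hk k f 0) c one₀
  refine ⟨fun i => Groth.L16.homOfSection _ (Groth.L21.RR.e0 _ (bas i)), fun a ha => funext fun i => ?_⟩
  have h := congrArg ev ha
  simp only [Fin.sum_univ_three, hadd, hsmul, hev] at h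
  rw [show ev 0 = 0 from Groth.L21.RR.hmap_zero _ _ 0 one₀] at h
  exact Fintype.linearIndependent_iff.1 bas.linearIndependent a (by rw [Fin.sum_univ_three]; exact h) i

end Groth.L03.VBPn.VdV
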